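import Cfsg.Agent.Mrg.Omega.NTwo.Core
import Cfsg.Agent.Mrg.Omega.NTwo.Zero
import Cfsg.Agent.Mrg.Omega.F4Leaf.Pos
import Cfsg.Agent.Mrg.Omega.S5.Pair
import Cfsg.Agent.ZN.ChoiceBase
import Cfsg.Agent.Mrg.Omega.MixOne.OfSplit
import Cfsg.Agent.Mrg.Omega.HOne.Main
import Cfsg.Agent.Mrg.Omega.HOne.SplitVQ
import Cfsg.Agent.Mrg.Omega.HTwo.Entry
import Cfsg.Agent.Mrg.Omega.F4Leaf.Split
import Cfsg.Agent.Mrg.Omega.HOne.Cut

-- merged: Cfsg.Agent.Mrg.Omega.F4Leaf.Cen.Base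
section

section


/-!
# LeafF4, `m = 2`, `n` 2-central (bb OMEGA #16971, #18108): standard position, `Ω₁Z(T) = Z ⟨n⟩`

`SV S P V₀ p` : `V_P = V₀ × A`, `p 0, …, p 4` the five points of `A`, `S` acts as the dihedral group `D8`
(`01 | 23 | 4`).  `n = p 0 * p 1`, `a = p 2 * p 3`, `s = p 4`, `T = C_S(n)`, `Z = Ω₁Z(S) = V₀ × ⟨s⟩`.

* `SV.mem_zcT` : `Ω₁Z(T) = Z ∪ nZ`.
-/

set_option autoImplicit false
set_option linter.unusedSectionVars false

namespace Cfsg.Agent.Omega.F4Leaf.Cen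

open Subgroup Cfsg Cfsg.Agent.MinSimple.VModule
open Cfsg.Agent.ZN (zc zl o2)
open Cfsg.Agent.Omega.MinPar (IsPar IsParS IsLoc)
open Cfsg.Agent.Omega.NTwo (Fv D8 nn aa cm cc ci conj_inj comm_iff mem_cent)

universe u

variable {G : Type u} [Group G]

/-- Standard position, `V_P = V₀ × A`. -/
structure SV (S P V0 : Subgroup G) (p : Fin 5 → G) : Prop extends Fv P p where
  par : IsParS S P
  act : ∀ x ∈ S, ∃ d ∈ D8, ∀ i, x * p i * x⁻¹ = p (d i)
  act8 : ∀ d ∈ D8, ∃ x ∈ S, ∀ i, x * p i * x⁻¹ = p (d i)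
  v0 : V0 ≤ zc S
  cen : ∀ v ∈ V0, ∀ g ∈ P, g * v * g⁻¹ = v
  zc4 : ∀ x ∈ zc S, x ∈ V0 ∨ x * p 4 ∈ V0
  zlV : ∀ x ∈ zl S P, ∃ v ∈ V0, ∃ a ∈ closure (Set.range p), x = v * a
  pV : ∀ i, p i ∈ zl S P
  pS : ∀ i, p i ∈ S
  same : ∀ g ∈ P, ∀ k ∈ P, (∀ i, g * p i * g⁻¹ = k * p i * k⁻¹) → ∀ y ∈ zc (o2 P), g * y * g⁻¹ = k * y * k⁻¹

/-- `T = C_S(n)` -/
abbrev TT (S : Subgroup G) (p : Fin 5 → G) : Subgroup G := NTwo.Std.T S p

theorem mem_T {S : Subgroup G} {p : Fin 5 → G} {x : G} : x ∈ TT S p ↔ x ∈ S ∧ x * nn p * x⁻¹ = nn p :=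
  NTwo.Std.mem_T

theorem T_le {S : Subgroup G} {p : Fin 5 → G} : TT S p ≤ S := NTwo.Std.T_le

namespace SV

section basic

variable {S P V0 : Subgroup G} {p : Fin 5 → G} (h : SV S P V0 p)
include h

theorem le : S ≤ P := h.par.le

theorem fix {x : G} (hx : x ∈ S) : x * p 4 * x⁻¹ = p 4 := by
  obtain ⟨d, hd, h1⟩ := h.act x hx
  rw [h1, NTwo.D8_fix d hd]

theorem s_mem : p 4 ∈ zc S :=
  mem_zc.2 ⟨h.pS 4, fun _ hb => comm_iff.1 (h.fix hb), by rw [sq]; exact h.sq 4⟩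

theorem part {x : G} (hx : x ∈ S) : x * nn p * x⁻¹ = nn p ∨ x * nn p * x⁻¹ = aa p := by
  obtain ⟨d, hd, h2⟩ := h.act x hx
  rw [cm, h2, h2]
  rcases NTwo.D8_part d hd with (⟨e1, e2⟩ | ⟨e1, e2⟩) | (⟨e1, e2⟩ | ⟨e1, e2⟩)
  · left; rw [e1, e2]
  · left; rw [e1, e2]; exact h.comm _ _
  · right; rw [e1, e2]
  · right; rw [e1, e2]; exact h.comm _ _

/-- `x ∈ S` acting as `(0 2)(1 3)` -/
theorem tau : ∃ x ∈ S, ∀ i, x * p i * x⁻¹ = p (Mod.χ i) := h.act8 _ (by decide +kernel)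

theorem na : nn p * aa p = p 4 := h.prod

theorem nsq : nn p * nn p = 1 := by
  rw [nn, mul_assoc, ← mul_assoc (p 1), h.comm 1 0, mul_assoc (p 0), h.sq, mul_one, h.sq]

theorem asq : aa p * aa p = 1 := by
  rw [aa, mul_assoc, ← mul_assoc (p 3), h.comm 3 2, mul_assoc (p 2), h.sq, mul_one, h.sq]

theorem ninv : (nn p)⁻¹ = nn p := inv_eq_of_mul_eq_one_left h.nsq

theorem ainv : (aa p)⁻¹ = aa p := inv_eq_of_mul_eq_one_left h.asq

theorem a_eq : aa p = nn p * p 4 := by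
  rw [← h.na, ← mul_assoc, h.nsq, one_mul]

theorem n_ne_one : nn p ≠ 1 := h.mul_ne_one (by decide)

theorem a_ne_one : aa p ≠ 1 := h.mul_ne_one (by decide)

theorem n_ne_a : nn p ≠ aa p := fun e => h.ne 4 (by rw [← h.na, ← e, h.nsq])

theorem pcomm (i : Fin 5) : nn p * p i = p i * nn p := by
  rw [nn, mul_assoc, h.comm 1 i, ← mul_assoc, h.comm 0 i, mul_assoc]

theorem pcomm' (i : Fin 5) : aa p * p i = p i * aa p := by
  rw [aa, mul_assoc, h.comm 3 i, ← mul_assoc, h.comm 2 i, mul_assoc]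

theorem an : aa p * nn p = p 4 := by
  rw [h.a_eq, h.pcomm, mul_assoc, h.nsq, mul_one]

theorem as : aa p * p 4 = nn p := by rw [← h.an, ← mul_assoc, h.asq, one_mul]

theorem a_eq_conj {x : G} (hx : x ∈ S) (e : x * nn p * x⁻¹ = aa p) : x * aa p * x⁻¹ = nn p := by
  rw [h.a_eq, cm, e, h.fix hx, h.a_eq, mul_assoc, h.sq, mul_one]

theorem n_mem : nn p ∈ S := mul_mem (h.pS 0) (h.pS 1)

theorem a_mem : aa p ∈ S := mul_mem (h.pS 2) (h.pS 3)

theorem n_V : nn p ∈ zl S P := mul_mem (h.pV 0) (h.pV 1)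

theorem a_V : aa p ∈ zl S P := mul_mem (h.pV 2) (h.pV 3)

theorem T_a {x : G} (hx : x ∈ TT S p) : x * aa p * x⁻¹ = aa p := by
  obtain ⟨h1, h2⟩ := mem_T.1 hx
  rw [h.a_eq, cm, h2, h.fix h1]

theorem v0_S {v : G} (hv : v ∈ V0) : v ∈ S := zc_le _ (h.v0 hv)

theorem v0_sq {v : G} (hv : v ∈ V0) : v * v = 1 := by
  have := (mem_zc.1 (h.v0 hv)).2.2
  rwa [pow_two] at this

/-- no nontrivial element of `A` is in `V₀` -/
theorem p_notin (i : Fin 5) : p i ∉ V0 := by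
  intro hi
  obtain ⟨j, hj, -⟩ := Fv.exists_fourth i i i
  obtain ⟨g, hg, h1⟩ := h.full (Equiv.swap i j)
  have h2 := h.cen _ hi g hg
  rw [h1, Equiv.swap_apply_left] at h2
  exact hj (h.inj h2)

theorem n_notin : nn p ∉ V0 := by
  intro hi
  obtain ⟨g, hg, h1⟩ := h.full Mod.χ
  have h2 := h.cen _ hi g hg
  rw [nn, cm, h1, h1] at h2
  exact h.n_ne_a h2.symm

theorem le_norm_T : S ≤ normalizer (TT S p : Set G) := by
  have key : ∀ x ∈ S, ∀ y ∈ TT S p, x * y * x⁻¹ ∈ TT S p := by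
    intro x hx y hy
    obtain ⟨h1, h2⟩ := mem_T.1 hy
    refine mem_T.2 ⟨mul_mem (mul_mem hx h1) (inv_mem hx), ?_⟩
    have hx' := inv_mem hx
    have h3 : x⁻¹ * nn p * x = nn p ∨ x⁻¹ * nn p * x = aa p := by
      have := h.part hx'
      rwa [inv_inv] at this
    have h4 : y * (x⁻¹ * nn p * x) * y⁻¹ = x⁻¹ * nn p * x := by
      rcases h3 with h3 | h3
      · rw [h3, h2]
      · rw [h3, h.T_a hy]
    calc x * y * x⁻¹ * nn p * (x * y * x⁻¹)⁻¹ = x * (y * (x⁻¹ * nn p * x) * y⁻¹) * x⁻¹ := by group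
      _ = nn p := by rw [h4]; group
  intro x hx
  rw [mem_normalizer_iff]
  refine fun y => ⟨key x hx y, fun hy => ?_⟩
  have := key x⁻¹ (inv_mem hx) _ hy
  have e : x⁻¹ * (x * y * x⁻¹) * x⁻¹⁻¹ = y := by group
  rwa [e] at this

theorem two_T {x y : G} (hx : x ∈ S) (hy : y ∈ S) (hx' : x ∉ TT S p) (hy' : y ∉ TT S p) : x⁻¹ * y ∈ TT S p := by
  have h1 : x * nn p * x⁻¹ = aa p := (h.part hx).resolve_left fun e => hx' (mem_T.2 ⟨hx, e⟩)
  have h2 : y * nn p * y⁻¹ = aa p := (h.part hy).resolve_left fun e => hy' (mem_T.2 ⟨hy, e⟩)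
  refine mem_T.2 ⟨mul_mem (inv_mem hx) hy, ?_⟩
  calc x⁻¹ * y * nn p * (x⁻¹ * y)⁻¹ = x⁻¹ * (y * nn p * y⁻¹) * x := by group
    _ = x⁻¹ * (x * nn p * x⁻¹) * x := by rw [h1, h2]
    _ = nn p := by group

theorem tau_notin {x : G} (e : x * nn p * x⁻¹ = aa p) : x ∉ TT S p := fun h3 =>
  h.n_ne_a ((mem_T.1 h3).2.symm.trans e)

theorem card_S [Finite G] : Nat.card S = 2 * Nat.card (TT S p) := by
  have e : Nat.card ((TT S p).subgroupOf S) = Nat.card (TT S p) := Nat.card_congr (subgroupOfEquivOfLe T_le).toEquiv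
  have h1 := card_mul_index ((TT S p).subgroupOf S)
  obtain ⟨τ, hτ, h2⟩ := h.tau
  have h2' : τ * nn p * τ⁻¹ = aa p := by rw [nn, cm, h2, h2]; rfl
  have h3 : ((TT S p).subgroupOf S).index = 2 := by
    rw [index_eq_two_iff]
    refine ⟨⟨τ, hτ⟩⁻¹, fun b => ?_⟩
    have hτT : τ ∉ TT S p := h.tau_notin h2'
    rw [mem_subgroupOf, mem_subgroupOf]
    change Xor ((b : G) * τ⁻¹ ∈ TT S p) ((b : G) ∈ TT S p)
    by_cases hb : (b : G) ∈ TT S p
    · refine Or.inr ⟨hb, fun h4 => hτT ?_⟩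
      have := mul_mem (inv_mem h4) hb
      simpa using this
    · refine Or.inl ⟨?_, hb⟩
      have h5 := h.two_T (inv_mem b.2) (inv_mem hτ) (fun h6 => hb ((inv_mem_iff).1 h6))
        (fun h6 => hτT ((inv_mem_iff).1 h6))
      rwa [inv_inv] at h5
  rw [e, h3] at h1
  omega

theorem zc_le_T : zc S ≤ TT S p := fun _ hx =>
  mem_T.2 ⟨zc_le _ hx, comm_iff.2 ((mem_zc.1 hx).2.1 _ h.n_mem).symm⟩

theorem zc_le_zcT : zc S ≤ zc (TT S p) := fun _ hx =>
  mem_zc.2 ⟨h.zc_le_T hx, fun b hb => (mem_zc.1 hx).2.1 b (T_le hb), (mem_zc.1 hx).2.2⟩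

theorem n_zcT : nn p ∈ zc (TT S p) :=
  mem_zc.2 ⟨mem_T.2 ⟨h.n_mem, by group⟩, fun b hb => comm_iff.1 (mem_T.1 hb).2, by rw [pow_two]; exact h.nsq⟩

theorem a_zcT : aa p ∈ zc (TT S p) := by
  rw [h.a_eq]
  exact mul_mem h.n_zcT (h.zc_le_zcT h.s_mem)

end basic

section fin

variable [Finite G] (hG : IsCharacteristicTwoType G) (S : Sylow 2 G) {P V0 : Subgroup G} {p : Fin 5 → G}
  (h : SV (S : Subgroup G) P V0 p)
include hG h

theorem mem_D {d : G} : d ∈ o2 P ↔ d ∈ (S : Subgroup G) ∧ ∀ i, d * p i * d⁻¹ = p i := by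
  rw [← h.par.inf_centralizer S hG, mem_inf, mem_centralizer_iff]
  refine and_congr_right fun hd => ⟨fun h1 i => comm_iff.2 (h1 _ (h.pV i)).symm, fun h1 y hy => ?_⟩
  have key : ∀ a ∈ closure (Set.range p), a * d = d * a := by
    intro a ha
    induction ha using closure_induction with
    | mem x hx =>
      obtain ⟨i, rfl⟩ := hx
      exact (comm_iff.1 (h1 i)).symm
    | one => rw [one_mul, mul_one]
    | mul x y _ _ hx hy => rw [mul_assoc, hy, ← mul_assoc, hx, mul_assoc]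
    | inv x _ hx =>
      have : Commute x d := hx
      exact this.inv_left
  obtain ⟨v, hv, a, ha, rfl⟩ := h.zlV y hy
  have h2 : v * d = d * v := by
    have := h.cen v hv d (h.le hd)
    rw [comm_iff] at this
    exact this.symm
  rw [mul_assoc, key a ha, ← mul_assoc, h2, mul_assoc]

theorem D_le_T : o2 P ≤ TT (S : Subgroup G) p := by
  intro d hd
  obtain ⟨h1, h2⟩ := (h.mem_D hG S).1 hd
  exact mem_T.2 ⟨h1, by rw [nn, cm, h2, h2]⟩

theorem zcT_le : zc (TT (S : Subgroup G) p) ≤ zc (o2 P) := by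
  intro x hx
  obtain ⟨h1, h2, h3⟩ := mem_zc.1 hx
  have h4 : x ∈ o2 P := h.par.isLoc.char2 S hG (mem_inf.2 ⟨h.le (T_le h1),
    mem_centralizer_iff.2 fun d hd => h2 d (h.D_le_T hG S hd)⟩)
  exact mem_zc.2 ⟨h4, fun d hd => h2 d (h.D_le_T hG S hd), h3⟩

theorem p_zcD (i : Fin 5) : p i ∈ zc (o2 P) := h.par.isLoc.zl_le S hG (h.pV i)

theorem norm_zcD {g y : G} (hg : g ∈ P) (hy : y ∈ zc (o2 P)) : g * y * g⁻¹ ∈ zc (o2 P) :=
  (mem_normalizer_iff.1 (normalizer_le_normalizer_zc _ (le_normalizer_o2 P hg)) y).1 hy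

/-- `Ω₁(Z(T)) = Z ∪ nZ` -/
theorem mem_zcT {x : G} (hx : x ∈ zc (TT (S : Subgroup G) p)) :
    x ∈ zc (S : Subgroup G) ∨ nn p * x ∈ zc (S : Subgroup G) := by
  classical
  have hxF := h.zcT_le hG S hx
  let _ : CommGroup (zc (o2 P)) := { (inferInstance : Group (zc (o2 P))) with
    mul_comm := fun a b => Subtype.ext ((mem_zc.1 b.2).2.1 _ (zc_le _ a.2)) }
  choose f hfP hfA using h.full
  let act : DistribMulAction (Equiv.Perm (Fin 5)) (Additive (zc (o2 P))) :=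
    { smul := fun σ y => Additive.ofMul ⟨f σ * (y.toMul : G) * (f σ)⁻¹, h.norm_zcD hG S (hfP σ) y.toMul.2⟩
      one_smul := fun y => by
        refine congrArg Additive.ofMul (Subtype.ext ?_)
        have h1 := h.same (f 1) (hfP 1) 1 P.one_mem (fun i => by rw [hfA]; simp) _ y.toMul.2
        rw [one_mul, inv_one, mul_one] at h1
        exact h1
      mul_smul := fun σ τ y => by
        refine congrArg Additive.ofMul (Subtype.ext ?_)
        have h1 := h.same (f (σ * τ)) (hfP _) (f σ * f τ) (P.mul_mem (hfP σ) (hfP τ))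
          (fun i => by rw [hfA, ← cc, hfA, hfA]; rfl) _ y.toMul.2
        refine h1.trans ?_
        change f σ * f τ * (y.toMul : G) * (f σ * f τ)⁻¹ = f σ * (f τ * (y.toMul : G) * (f τ)⁻¹) * (f σ)⁻¹
        group
      smul_zero := fun σ => by
        refine congrArg Additive.ofMul (Subtype.ext ?_)
        change f σ * (1 : G) * (f σ)⁻¹ = 1
        group
      smul_add := fun σ x y => by
        refine congrArg Additive.ofMul (Subtype.ext ?_)
        change f σ * ((x.toMul : G) * (y.toMul : G)) * (f σ)⁻¹ =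
          f σ * (x.toMul : G) * (f σ)⁻¹ * (f σ * (y.toMul : G) * (f σ)⁻¹)
        group }
  have hact : ∀ (σ : Equiv.Perm (Fin 5)) (y : Additive (zc (o2 P))),
      (((σ • y).toMul : zc (o2 P)) : G) = f σ * (y.toMul : G) * (f σ)⁻¹ := fun _ _ => rfl
  have hext : ∀ {x y : Additive (zc (o2 P))}, ((x.toMul : zc (o2 P)) : G) = ((y.toMul : zc (o2 P)) : G) → x = y := by
    intro x y hxy
    exact congrArg Additive.ofMul (Subtype.ext hxy)
  let c : Fin 5 → Additive (zc (o2 P)) := fun i => Additive.ofMul ⟨p i, h.p_zcD hG S i⟩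
  -- a `D8`-fixed vector is in `Ω₁(Z(S))`
  have hfix : ∀ y : Additive (zc (o2 P)), (∀ d ∈ D8, d • y = y) → ((y.toMul : zc (o2 P)) : G) ∈ zc (S : Subgroup G) := by
    intro y hy
    refine mem_zc.2 ⟨h.par.isLoc.o2_le S (zc_le _ y.toMul.2), fun b hb => ?_, (mem_zc.1 y.toMul.2).2.2⟩
    obtain ⟨d, hd, h1⟩ := h.act b hb
    have h2 := congrArg (fun w : Additive (zc (o2 P)) => ((w.toMul : zc (o2 P)) : G)) (hy d hd)
    change f d * ((y.toMul : zc (o2 P)) : G) * (f d)⁻¹ = ((y.toMul : zc (o2 P)) : G) at h2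
    have h3 := h.same b (h.le hb) (f d) (hfP d) (fun i => by rw [h1, hfA]) _ y.toMul.2
    rw [h2] at h3
    exact comm_iff.1 h3
  have hM : Mod.Mo c :=
    { two := fun y => hext (by
        have := (mem_zc.1 y.toMul.2).2.2
        rw [pow_two] at this
        exact this)
      act := fun σ i => hext (hfA σ i)
      sum := hext h.prod
      fixed := fun y hy => by
        rcases h.zc4 _ (hfix y hy) with h1 | h1
        · left
          intro σ
          refine hext ?_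
          rw [hact]
          exact h.cen _ h1 _ (hfP σ)
        · right
          intro σ
          refine hext ?_
          rw [hact]
          exact h.cen _ h1 _ (hfP σ) }
  let b : Additive (zc (o2 P)) := Additive.ofMul ⟨x, hxF⟩
  have hb : ∀ σ, Mod.Rs σ → σ • b = b := by
    intro σ hσ
    have hD : σ ∈ D8 := by
      revert σ
      decide +kernel
    obtain ⟨t, ht, h1⟩ := h.act8 σ hD
    have htT : t ∈ TT (S : Subgroup G) p := by
      refine mem_T.2 ⟨ht, ?_⟩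
      rw [nn, cm, h1, h1]
      rcases hσ.1 with ⟨e0, e1⟩ | ⟨e0, e1⟩
      · rw [e0, e1]
      · rw [e0, e1]; exact h.comm _ _
    refine hext ?_
    rw [hact]
    change f σ * x * (f σ)⁻¹ = x
    rw [← h.same t (h.le ht) (f σ) (hfP σ) (fun i => by rw [h1, hfA]) x hxF, comm_iff]
    exact (mem_zc.1 hx).2.1 t htT
  rcases hM.key hb with h1 | h1
  · exact Or.inl (hfix b h1)
  · right
    have h2 := hfix _ h1
    change x * (p 0 * p 1) ∈ _ at h2
    rwa [(mem_zc.1 hx).2.1 (nn p) (mem_T.2 ⟨h.n_mem, by group⟩)]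

end fin

end SV

end Cfsg.Agent.Omega.F4Leaf.Cen

end

section


/-!
# LeafF4, `m = 2`, `n` 2-central (bb OMEGA #18108): the interface between (0)-(2) and (3)-(5)

`Out S P V₀ p r v e w` : `r` normalises `T = C_S(n)`, centralises `n` and swaps `a` and `v ∈ V₀`; `e` induces `(0 1)`
and is in `O₂(C(n))`, `w` induces `(2 4)` and is in `O₂(C(p 2 * p 4))`.
-/

set_option autoImplicit false

namespace Cfsg.Agent.Omega.F4Leaf.Cen

open Subgroup Cfsg
open Cfsg.Agent.ZN (zc zl o2)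
open Cfsg.Agent.Omega.NTwo (nn aa)

universe u

variable {G : Type u} [Group G] [Finite G]

/-- The output of (0)-(2) of #18108. -/
structure Out (S : Sylow 2 G) (P V0 : Subgroup G) (p : Fin 5 → G) (r v e w : G) : Prop
    extends SV (S : Subgroup G) P V0 p where
  char2 : IsCharacteristicTwoType G
  r_T : r ∈ normalizer (TT (S : Subgroup G) p : Set G)
  r_sq : r * r ∈ TT (S : Subgroup G) p
  r_n : r * nn p * r⁻¹ = nn p
  r_a : r * aa p * r⁻¹ = v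
  r_v : r * v * r⁻¹ = aa p
  v_mem : v ∈ V0
  Q_T : o2 (centralizer {nn p}) ≤ TT (S : Subgroup G) p
  V_Q : zl (S : Subgroup G) P ≤ o2 (centralizer {nn p})
  Q_V : ∀ q ∈ o2 (centralizer {nn p}), ∀ x ∈ zl (S : Subgroup G) P, q * x * q⁻¹ = x ∨ q * x * q⁻¹ = nn p * x
  zcQ_D : zc (o2 (centralizer {nn p})) ≤ o2 P
  e_mem : e ∈ o2 (centralizer {nn p})
  e_p : ∀ i, e * p i * e⁻¹ = p (Equiv.swap 0 1 i)
  w_mem : w ∈ o2 (centralizer {p 2 * p 4})
  w_p : ∀ i, w * p i * w⁻¹ = p (Equiv.swap 2 4 i)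
  w_Q : ∀ q ∈ o2 (centralizer {p 2 * p 4}), w * q * w⁻¹ = q ∨ w * q * w⁻¹ = p 2 * p 4 * q
  zcQ'_D : zc (o2 (centralizer {p 2 * p 4})) ≤ o2 P
  fact : ∀ y ∈ zc (o2 (centralizer {nn p})), (∀ u ∈ zc (o2 (centralizer {p 2 * p 4})), y * u = u * y) →
    y ∈ o2 (centralizer {p 2 * p 4})

/-- `n` is 2-central -/
def NCen (p : Fin 5 → G) : Prop := ∃ T : Sylow 2 G, (T : Subgroup G) ≤ centralizer {nn p}

end Cfsg.Agent.Omega.F4Leaf.Cen

end

section


/-!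
# LeafF4, `m = 2`, `n` 2-central (bb OMEGA #18108 (0)): the element `r`

`T₁ ≥ T` a Sylow 2-subgroup in `C(n)`, `r ∈ T₁ ∖ T` : `q = r a r⁻¹ ≠ a`, `r q r⁻¹ = a`, `q ∈ Ω₁Z(S)`.
-/

set_option autoImplicit false
set_option linter.unusedSectionVars false

namespace Cfsg.Agent.Omega.F4Leaf.Cen.R

open Subgroup Cfsg Cfsg.Agent.MinSimple.VModule Pointwise
open Cfsg.Agent.ZN (zc zl o2)
open Cfsg.Agent.Omega.NTwo (Fv D8 nn aa cm cc ci conj_inj comm_iff mem_cent exists_conj_le exists_conj_le' mem_smul)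

universe u

variable {G : Type u} [Group G] [Finite G]

/-- the group `T₁` -/
structure TOne (S : Subgroup G) (p : Fin 5 → G) (T₁ : Sylow 2 G) : Prop where
  le : TT S p ≤ (T₁ : Subgroup G)
  cen : ∀ x ∈ (T₁ : Subgroup G), x * nn p * x⁻¹ = nn p
  nrm : (T₁ : Subgroup G) ≤ normalizer (TT S p : Set G)
  two : ∀ x ∈ (T₁ : Subgroup G), ∀ y ∈ (T₁ : Subgroup G), x ∉ TT S p → y ∉ TT S p → x⁻¹ * y ∈ TT S p
  ex : ∃ r ∈ (T₁ : Subgroup G), r ∉ TT S p

/-- an odd power of an element normalising a Sylow subgroup is in it -/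
theorem exists_odd (T₁ : Sylow 2 G) {z : G} (hz : ∀ x ∈ (T₁ : Subgroup G), z * x * z⁻¹ ∈ (T₁ : Subgroup G)) :
    ∃ k : ℕ, z ^ (2 * k + 1) ∈ (T₁ : Subgroup G) := by
  have hp2 : Fact (Nat.Prime 2) := ⟨Nat.prime_two⟩
  obtain ⟨a, m, hm, h1⟩ := Nat.exists_eq_pow_mul_and_not_dvd (orderOf_pos z).ne' 2 (by norm_num)
  have hmo : Odd m := by
    rw [← Nat.not_even_iff_odd]
    exact fun h => hm h.two_dvd
  obtain ⟨k, hk⟩ := hmo
  refine ⟨k, ?_⟩
  rw [← hk]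
  have h2 : IsPGroup 2 (zpowers (z ^ m)) := by
    rw [IsPGroup.iff_orderOf]
    rintro ⟨y, hy⟩
    obtain ⟨j, rfl⟩ := mem_zpowers_iff.1 hy
    have h3 : orderOf ((z ^ m) ^ j) ∣ 2 ^ a := by
      rw [orderOf_dvd_iff_pow_eq_one, ← zpow_natCast, ← zpow_mul, mul_comm, zpow_mul, zpow_natCast, ← pow_mul,
        mul_comm m, ← h1, pow_orderOf_eq_one, one_zpow]
    obtain ⟨b, -, h4⟩ := (Nat.dvd_prime_pow Nat.prime_two).1 h3
    refine ⟨b, ?_⟩
    rw [← h4, ← Subgroup.orderOf_coe]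
  have hz' : z ∈ normalizer ((T₁ : Subgroup G) : Set G) := by
    rw [mem_normalizer_iff]
    intro x
    refine ⟨hz x, fun hx => ?_⟩
    have h3 : MulAut.conj z • (T₁ : Subgroup G) ≤ T₁ := by
      intro y hy
      rw [mem_pointwise_smul_iff_inv_smul_mem] at hy
      have h4 := hz _ hy
      have e : z * ((MulAut.conj z)⁻¹ • y) * z⁻¹ = y := by
        rw [← map_inv]
        change z * (MulAut.conj z⁻¹ y) * z⁻¹ = y
        rw [MulAut.conj_apply]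
        group
      rwa [e] at h4
    have h4 : MulAut.conj z • (T₁ : Subgroup G) = T₁ :=
      eq_of_le_of_card_ge h3 (Nat.card_congr (Subgroup.equivSMul (MulAut.conj z) (T₁ : Subgroup G)).toEquiv).le
    rw [← h4, mem_pointwise_smul_iff_inv_smul_mem] at hx
    have e : (MulAut.conj z)⁻¹ • (z * x * z⁻¹) = x := by
      rw [← map_inv]
      change MulAut.conj z⁻¹ (z * x * z⁻¹) = x
      rw [MulAut.conj_apply]
      group
    rwa [e] at hx
  have h5 := h2.inf_normalizer_sylow T₁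
  have h6 : z ^ m ∈ zpowers (z ^ m) ⊓ (T₁ : Subgroup G) := by
    rw [← h5]
    exact ⟨mem_zpowers _, pow_mem hz' m⟩
  exact h6.2

variable (hG : IsCharacteristicTwoType G) (S : Sylow 2 G) {P V0 : Subgroup G} {p : Fin 5 → G}
  (h : SV (S : Subgroup G) P V0 p)
include h

/-- existence of `T₁` -/
theorem exists_tOne (hN : NCen p) : ∃ T₁ : Sylow 2 G, TOne (S : Subgroup G) p T₁ := by
  have hp2 : Fact (Nat.Prime 2) := ⟨Nat.prime_two⟩
  obtain ⟨T₀, hT₀⟩ := hN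
  have hTn : TT (S : Subgroup G) p ≤ centralizer ({nn p} : Set G) := inf_le_right
  have hT2 : IsPGroup 2 (TT (S : Subgroup G) p) := S.isPGroup'.to_le T_le
  obtain ⟨T₁, hTT₁, hT₁⟩ := exists_conj_le T₀ hT₀ hT2 hTn
  have hcard : Nat.card (T₁ : Subgroup G) = 2 * Nat.card (TT (S : Subgroup G) p) := by
    rw [← h.card_S]
    exact Nat.card_congr (Sylow.equiv T₁ S).toEquiv
  have h3 : 0 < Nat.card (TT (S : Subgroup G) p) := Nat.card_pos
  have hidx : ((TT (S : Subgroup G) p).subgroupOf (T₁ : Subgroup G)).index = 2 := by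
    have e : Nat.card ((TT (S : Subgroup G) p).subgroupOf (T₁ : Subgroup G)) = Nat.card (TT (S : Subgroup G) p) :=
      Nat.card_congr (subgroupOfEquivOfLe hTT₁).toEquiv
    have h1 := card_mul_index ((TT (S : Subgroup G) p).subgroupOf (T₁ : Subgroup G))
    rw [e, hcard] at h1
    rw [mul_comm] at h1
    exact Nat.eq_of_mul_eq_mul_right h3 h1
  have hT₁n : (T₁ : Subgroup G) ≤ normalizer (TT (S : Subgroup G) p : Set G) :=
    (normal_subgroupOf_iff_le_normalizer hTT₁).1 (normal_of_index_eq_two hidx)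
  refine ⟨T₁, hTT₁, fun x hx => mem_cent.1 (hT₁ hx), hT₁n, ?_, ?_⟩
  · intro x hx y hy hxT hyT
    have h3 := mul_mem_iff_of_index_two hidx (a := (⟨x, hx⟩ : (T₁ : Subgroup G))⁻¹) (b := ⟨y, hy⟩)
    rw [inv_mem_iff] at h3
    have h4 := h3.mpr (iff_of_false (fun h => hxT (mem_subgroupOf.mp h)) (fun h => hyT (mem_subgroupOf.mp h)))
    exact mem_subgroupOf.mp h4
  · by_contra hcon
    push Not at hcon
    have h4 : Nat.card (T₁ : Subgroup G) ≤ Nat.card (TT (S : Subgroup G) p) := card_le_of_le hcon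
    omega

variable {T₁ : Sylow 2 G} (t : TOne (S : Subgroup G) p T₁)
include t

/-- `T₁` does not centralise `a` -/
theorem not_cent : ¬ ∀ x ∈ (T₁ : Subgroup G), x * aa p * x⁻¹ = aa p := by
  intro h1
  obtain ⟨x, hx, hxp⟩ := h.tau
  have hxn : x * nn p * x⁻¹ = aa p := by rw [nn, cm, hxp, hxp]; rfl
  have hxa : x * aa p * x⁻¹ = nn p := h.a_eq_conj hx hxn
  obtain ⟨Y, hY⟩ : ∃ Y : Subgroup G, Y = centralizer ({nn p} : Set G) ⊓ centralizer ({aa p} : Set G) := ⟨_, rfl⟩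
  have hYm : ∀ y, y ∈ Y ↔ y * nn p * y⁻¹ = nn p ∧ y * aa p * y⁻¹ = aa p := fun y => by
    rw [hY, mem_inf, mem_cent, mem_cent]
  have hT₁Y : (T₁ : Subgroup G) ≤ Y := fun y hy => (hYm y).2 ⟨t.cen y hy, h1 y hy⟩
  have hxT₁ : ((x • T₁ : Sylow 2 G) : Subgroup G) ≤ Y := by
    intro y hy
    rw [mem_smul] at hy
    obtain ⟨k1, k2⟩ := (hYm _).1 (hT₁Y hy)
    refine (hYm y).2 ⟨?_, ?_⟩
    · calc y * nn p * y⁻¹ = x * ((x⁻¹ * y * x) * (x⁻¹ * nn p * x) * (x⁻¹ * y * x)⁻¹) * x⁻¹ := by group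
        _ = x * ((x⁻¹ * y * x) * aa p * (x⁻¹ * y * x)⁻¹) * x⁻¹ := by rw [← hxa]; group
        _ = nn p := by rw [k2, hxa]
    · calc y * aa p * y⁻¹ = x * ((x⁻¹ * y * x) * (x⁻¹ * aa p * x) * (x⁻¹ * y * x)⁻¹) * x⁻¹ := by group
        _ = x * ((x⁻¹ * y * x) * nn p * (x⁻¹ * y * x)⁻¹) * x⁻¹ := by rw [← hxn]; group
        _ = aa p := by rw [k1, hxn]
  obtain ⟨c, hc, h2, -⟩ := exists_conj_le' (x • T₁) hxT₁ T₁.isPGroup' hT₁Y
  obtain ⟨c1, c2⟩ := (hYm c).1 hc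
  obtain ⟨z, hz⟩ : ∃ z, z = (c * x)⁻¹ := ⟨_, rfl⟩
  have h3 : ∀ y ∈ (T₁ : Subgroup G), z * y * z⁻¹ ∈ (T₁ : Subgroup G) := by
    intro y hy
    have := h2 hy
    rw [mem_smul, mem_smul] at this
    rw [hz]
    have e : (c * x)⁻¹ * y * (c * x)⁻¹⁻¹ = x⁻¹ * (c⁻¹ * y * c) * x := by group
    rwa [e]
  have hci : ∀ y : G, c * y * c⁻¹ = y → c⁻¹ * y * c = y := by
    intro y e
    calc c⁻¹ * y * c = c⁻¹ * (c * y * c⁻¹) * c := by rw [e]
      _ = y := by group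
  have hzn : z * nn p * z⁻¹ = aa p := by
    calc z * nn p * z⁻¹ = x⁻¹ * (c⁻¹ * nn p * c) * x := by rw [hz]; group
      _ = x⁻¹ * (x * aa p * x⁻¹) * x := by rw [hci _ c1, hxa]
      _ = aa p := by group
  have hza : z * aa p * z⁻¹ = nn p := by
    calc z * aa p * z⁻¹ = x⁻¹ * (c⁻¹ * aa p * c) * x := by rw [hz]; group
      _ = x⁻¹ * (x * nn p * x⁻¹) * x := by rw [hci _ c2, hxn]
      _ = nn p := by group
  obtain ⟨k, hk⟩ := exists_odd T₁ h3
  have h4 : ∀ j : ℕ, z ^ (2 * j + 1) * nn p * (z ^ (2 * j + 1))⁻¹ = aa p := by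
    intro j
    induction j with
    | zero => simpa using hzn
    | succ j ih =>
      have e : z ^ (2 * (j + 1) + 1) = z * z * z ^ (2 * j + 1) := by
        rw [← pow_two, ← pow_add]
        congr 1
        ring
      calc z ^ (2 * (j + 1) + 1) * nn p * (z ^ (2 * (j + 1) + 1))⁻¹
          = z * (z * (z ^ (2 * j + 1) * nn p * (z ^ (2 * j + 1))⁻¹) * z⁻¹) * z⁻¹ := by rw [e]; group
        _ = aa p := by rw [ih, hza, hzn]
  exact h.n_ne_a ((t.cen _ hk).symm.trans (h4 k))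

theorem ra_ne {r : G} (hr : r ∈ (T₁ : Subgroup G)) (hrT : r ∉ TT (S : Subgroup G) p) : r * aa p * r⁻¹ ≠ aa p := by
  intro h1
  refine not_cent S h t fun x hx => ?_
  by_cases hxT : x ∈ TT (S : Subgroup G) p
  · exact h.T_a hxT
  · have h2 := h.T_a (t.two r hr x hx hrT hxT)
    calc x * aa p * x⁻¹ = r * ((r⁻¹ * x) * aa p * (r⁻¹ * x)⁻¹) * r⁻¹ := by group
      _ = aa p := by rw [h2, h1]

theorem rr_mem {r : G} (hr : r ∈ (T₁ : Subgroup G)) (hrT : r ∉ TT (S : Subgroup G) p) :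
    r * r ∈ TT (S : Subgroup G) p := by
  have h1 := t.two r⁻¹ (inv_mem hr) r hr (fun h2 => hrT ((inv_mem_iff).1 h2)) hrT
  rwa [inv_inv] at h1

theorem rr_a {r : G} (hr : r ∈ (T₁ : Subgroup G)) (hrT : r ∉ TT (S : Subgroup G) p) :
    r * (r * aa p * r⁻¹) * r⁻¹ = aa p := by
  rw [cc]
  exact h.T_a (rr_mem S h t hr hrT)

theorem norm_zcT {g b : G} (hg : g ∈ normalizer (TT (S : Subgroup G) p : Set G))
    (hb : b ∈ zc (TT (S : Subgroup G) p)) : g * b * g⁻¹ ∈ zc (TT (S : Subgroup G) p) :=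
  (mem_normalizer_iff.1 (normalizer_le_normalizer_zc _ hg) _).1 hb

include hG in
/-- **(0)** `q ∈ Ω₁Z(S)` -/
theorem q_mem {r : G} (hr : r ∈ (T₁ : Subgroup G)) (hrT : r ∉ TT (S : Subgroup G) p) :
    r * aa p * r⁻¹ ∈ zc (S : Subgroup G) := by
  obtain ⟨q, hq⟩ : ∃ q, q = r * aa p * r⁻¹ := ⟨_, rfl⟩
  have hqa : q ≠ aa p := hq ▸ ra_ne S h t hr hrT
  have hrq : r * q * r⁻¹ = aa p := hq ▸ rr_a S h t hr hrT
  have hqz : q ∈ zc (TT (S : Subgroup G) p) := hq ▸ norm_zcT S h t (t.nrm hr) h.a_zcT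
  rw [← hq]
  refine (h.mem_zcT hG S hqz).resolve_right fun hnq => ?_
  have hs := h.s_mem
  have hqq : q * q = 1 := by
    have := (mem_zc.1 hqz).2.2
    rwa [pow_two] at this
  have haT : aa p ∈ TT (S : Subgroup G) p := zc_le _ h.a_zcT
  have hqT : q ∈ TT (S : Subgroup G) p := zc_le _ hqz
  have haq : aa p * q = q * aa p := (mem_zc.1 hqz).2.1 _ haT
  -- `c = a q ∈ Ω₁Z(S)`
  obtain ⟨c, hc⟩ : ∃ c, c = aa p * q := ⟨_, rfl⟩
  have hcS : c ∈ zc (S : Subgroup G) := by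
    have e : c = p 4 * (nn p * q) := by
      rw [hc, h.a_eq, ← mul_assoc]
      congr 1
      rw [h.pcomm]
    rw [e]
    exact mul_mem hs hnq
  have hcr : r * c * r⁻¹ = c := by
    rw [hc, cm, ← hq, hrq, haq]
  have hSc : ∀ x ∈ (S : Subgroup G), x * c * x⁻¹ = c := fun x hx => comm_iff.2 ((mem_zc.1 hcS).2.1 x hx)
  have hT₁c : ∀ x ∈ (T₁ : Subgroup G), x * c * x⁻¹ = c := by
    intro x hx
    by_cases hxT : x ∈ TT (S : Subgroup G) p
    · exact hSc x (T_le hxT)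
    · have h2 := hSc _ (T_le (t.two r hr x hx hrT hxT))
      calc x * c * x⁻¹ = r * ((r⁻¹ * x) * c * (r⁻¹ * x)⁻¹) * r⁻¹ := by group
        _ = c := by rw [h2, hcr]
  -- `T₁ = g S g⁻¹`
  obtain ⟨X, hX⟩ : ∃ X : Subgroup G, X = normalizer (TT (S : Subgroup G) p : Set G) ⊓ centralizer ({c} : Set G) :=
    ⟨_, rfl⟩
  have hSX : (S : Subgroup G) ≤ X := fun x hx => hX ▸ mem_inf.2 ⟨h.le_norm_T hx, mem_cent.2 (hSc x hx)⟩
  have hT₁X : (T₁ : Subgroup G) ≤ X := fun x hx => hX ▸ mem_inf.2 ⟨t.nrm hx, mem_cent.2 (hT₁c x hx)⟩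
  obtain ⟨g, hg, h1, -⟩ := exists_conj_le' S hSX T₁.isPGroup' hT₁X
  rw [hX, mem_inf, mem_cent] at hg
  obtain ⟨hgT, hgc⟩ := hg
  have h2 := h1 hr
  rw [mem_smul] at h2
  have h3 : g⁻¹ * aa p * g ∈ zc (TT (S : Subgroup G) p) := by
    have := norm_zcT S h t (inv_mem hgT) h.a_zcT
    rwa [inv_inv] at this
  -- `[S, Ω₁Z(T)] ≤ ⟨s⟩`
  have key : ∀ x ∈ (S : Subgroup G), ∀ b ∈ zc (TT (S : Subgroup G) p),
      x * b * x⁻¹ * b⁻¹ = 1 ∨ x * b * x⁻¹ * b⁻¹ = p 4 := by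
    intro x hx b hb
    rcases h.mem_zcT hG S hb with h4 | h4
    · left
      rw [(comm_iff.2 ((mem_zc.1 h4).2.1 x hx)), mul_inv_cancel]
    · have h5 : x * (nn p * b) * x⁻¹ = nn p * b := comm_iff.2 ((mem_zc.1 h4).2.1 x hx)
      have e : x * b * x⁻¹ = (x * nn p * x⁻¹)⁻¹ * (nn p * b) := by
        rw [← h5]; group
      rcases h.part hx with h6 | h6
      · left
        rw [e, h6]
        group
      · right
        rw [e, h6, h.ainv]
        calc aa p * (nn p * b) * b⁻¹ = aa p * nn p := by group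
          _ = p 4 := h.an
  have h4 : c = g * p 4 * g⁻¹ := by
    have e : c = g * ((g⁻¹ * r * g) * (g⁻¹ * aa p * g) * (g⁻¹ * r * g)⁻¹ * (g⁻¹ * aa p * g)⁻¹) * g⁻¹ := by
      calc c = q * aa p := by rw [hc, haq]
        _ = r * aa p * r⁻¹ * (aa p)⁻¹ := by rw [hq, h.ainv]
        _ = _ := by group
    rcases key _ h2 _ h3 with h5 | h5
    · exfalso
      rw [h5] at e
      have e2 : c = 1 := by rw [e]; group
      apply hqa
      rw [hc] at e2
      calc q = aa p * (aa p * q) := by rw [← mul_assoc, h.asq, one_mul]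
        _ = aa p := by rw [e2, mul_one]
    · rw [h5] at e
      exact e
  have h5 : c = p 4 := by
    have e : g⁻¹ * c * g = p 4 := by rw [h4]; group
    rw [← e]
    calc c = g⁻¹ * (g * c * g⁻¹) * g := by group
      _ = g⁻¹ * c * g := by rw [hgc]
  have h6 : q = nn p := by
    calc q = aa p * (aa p * q) := by rw [← mul_assoc, h.asq, one_mul]
      _ = nn p := by rw [← hc, h5, h.as]
  exact h.n_ne_a (conj_inj (g := r) (by rw [t.cen r hr, ← hq, h6]))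

end Cfsg.Agent.Omega.F4Leaf.Cen.R

end

section


/-!
# LeafF4, `m = 2`, `n` 2-central (bb OMEGA #18108 (1), (2)): `O₂(C(n)) ≤ T`, FACT, `v = r a r⁻¹ ∈ V₀`

`exists_out` : the output structure `Out`.
-/

set_option autoImplicit false
set_option linter.unusedSectionVars false

namespace Cfsg.Agent.Omega.F4Leaf.Cen.Q

open Subgroup Cfsg Cfsg.Agent.MinSimple.VModule Pointwise
open Cfsg.Agent.MinSimple.Basic (not_dvd_relIndex char2_centralizer)
open Cfsg.Agent.ZN (zc zl o2)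
open Cfsg.Agent.Omega.S5.Mod (le_o2_of_comm)
open Cfsg.Agent.Omega.NTwo (Fv D8 nn aa cm cc ci conj_inj comm_iff mem_cent o2_cent_conj o2_cent_conj' norm_zc_cent
  mem_zc_of norm_cent)

universe u

variable {G : Type u} [Group G]

/-! ### Actions on the five points -/

/-- `g` acts on the points as `σ` -/
def Ac (p : Fin 5 → G) (g : G) (σ : Equiv.Perm (Fin 5)) : Prop := ∀ i, g * p i * g⁻¹ = p (σ i)

section ac

variable {p : Fin 5 → G}

theorem Ac.mul {g k : G} {σ τ : Equiv.Perm (Fin 5)} (h : Ac p g σ) (h' : Ac p k τ) : Ac p (g * k) (σ * τ) := by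
  intro i
  rw [← cc, h', h]
  rfl

theorem Ac.inv {g : G} {σ : Equiv.Perm (Fin 5)} (h : Ac p g σ) : Ac p g⁻¹ σ⁻¹ := by
  intro i
  have h1 := h (σ⁻¹ i)
  rw [show σ (σ⁻¹ i) = i from σ.apply_symm_apply i] at h1
  rw [← h1]
  group

theorem Ac.pow {g : G} {σ : Equiv.Perm (Fin 5)} (h : Ac p g σ) (n : ℕ) : Ac p (g ^ n) (σ ^ n) := by
  induction n with
  | zero => intro i; simp
  | succ n ih =>
    rw [pow_succ, pow_succ]
    exact ih.mul h

theorem dec_fix : ∀ σ : Equiv.Perm (Fin 5), (σ 0 = 0 ∧ σ 1 = 1) ∨ (σ 0 = 1 ∧ σ 1 = 0) →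
    (σ 2 = 2 ∧ σ 3 = 3 ∧ σ 4 = 4) ∨ ((σ * σ) ^ 3 = 1 ∧ σ * σ ≠ 1) ∨
    ((σ * ((Equiv.swap (2 : Fin 5) 3 * Equiv.swap 3 4) * σ⁻¹ * (Equiv.swap (2 : Fin 5) 3 * Equiv.swap 3 4)⁻¹)) ^ 3 = 1 ∧
      σ * ((Equiv.swap (2 : Fin 5) 3 * Equiv.swap 3 4) * σ⁻¹ * (Equiv.swap (2 : Fin 5) 3 * Equiv.swap 3 4)⁻¹) ≠ 1) := by
  decide +kernel

theorem dec_swap : ∀ σ : Equiv.Perm (Fin 5), σ 2 = 2 → σ 3 = 3 → σ 4 = 4 → σ = 1 ∨ σ = Equiv.swap 0 1 := by
  decide +kernel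

theorem odd_eq {P : Subgroup G} (hF : Fv P p) {k : G} {κ : Equiv.Perm (Fin 5)} (hk : Ac p k κ)
    (hk2 : ∃ n : ℕ, k ^ 2 ^ n = 1) (h3 : κ ^ 3 = 1) : κ = 1 := by
  obtain ⟨n, hn⟩ := hk2
  have h1 : κ ^ 2 ^ n = 1 := by
    refine Equiv.ext fun i => ?_
    have := hk.pow (2 ^ n) i
    rw [hn, one_mul, inv_one, mul_one] at this
    exact (hF.inj this).symm
  have h2 : orderOf κ ∣ 2 ^ n := orderOf_dvd_of_pow_eq_one h1
  have h4 : orderOf κ ∣ 3 := orderOf_dvd_of_pow_eq_one h3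
  have h5 : Nat.Coprime (2 ^ n) 3 := Nat.Coprime.pow_left _ (by norm_num)
  exact orderOf_eq_one_iff.1 (Nat.eq_one_of_dvd_coprimes h5 h2 h4)

end ac

/-! ### FACT -/

theorem zc_conj [Finite G] {g x y b : G} (e : g * x * g⁻¹ = y) (hb : b ∈ zc (o2 (centralizer ({x} : Set G)))) :
    g * b * g⁻¹ ∈ zc (o2 (centralizer ({y} : Set G))) := by
  obtain ⟨k1, k2, k3⟩ := mem_zc.1 hb
  refine mem_zc.2 ⟨o2_cent_conj e k1, fun c hc => ?_, by rw [conj_pow, k3, mul_one, mul_inv_cancel]⟩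
  have h2 := k2 _ (o2_cent_conj' e hc)
  calc c * (g * b * g⁻¹) = g * (g⁻¹ * c * g * b) * g⁻¹ := by group
    _ = g * (b * (g⁻¹ * c * g)) * g⁻¹ := by rw [h2]
    _ = g * b * g⁻¹ * c := by group

theorem zc_conj' [Finite G] {g x y b : G} (e : g * x * g⁻¹ = y) (hb : b ∈ zc (o2 (centralizer ({y} : Set G)))) :
    g⁻¹ * b * g ∈ zc (o2 (centralizer ({x} : Set G))) := by
  have h1 : g⁻¹ * y * g⁻¹⁻¹ = x := by rw [← e]; group
  have h2 := zc_conj h1 hb
  rwa [inv_inv] at h2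

/-- **FACT** -/
theorem fact [Finite G] {n ρ y : G} (hn : n ∈ zc (o2 (centralizer ({ρ} : Set G))))
    (hy : y ∈ zc (o2 (centralizer ({n} : Set G)))) (hyρ : y * ρ * y⁻¹ = ρ)
    (hc : ∀ u ∈ zc (o2 (centralizer ({ρ} : Set G))), u * y * u⁻¹ = y) : y ∈ o2 (centralizer ({ρ} : Set G)) := by
  obtain ⟨K, hK⟩ : ∃ K, K = centralizer ({ρ} : Set G) ⊓
      centralizer (zc (o2 (centralizer ({ρ} : Set G))) : Set G) := ⟨_, rfl⟩
  have hKa : K ≤ centralizer ({ρ} : Set G) := hK ▸ inf_le_left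
  have hKn : K ≤ centralizer ({n} : Set G) := by
    intro k hk
    rw [hK, mem_inf, mem_centralizer_iff] at hk
    rw [mem_cent, comm_iff]
    exact (hk.2 _ hn).symm
  have hN1 : zc (o2 (centralizer ({n} : Set G))) ⊓ K ≤ o2 K := by
    refine le_o2 inf_le_right ((o2_isPGroup _).to_le (inf_le_left.trans (zc_le _))) ?_
    refine le_trans (le_inf (hKn.trans ?_) le_normalizer) inf_normalizer_le_normalizer_inf
    exact (le_normalizer_o2 _).trans (normalizer_le_normalizer_zc _)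
  have hK1 : centralizer ({ρ} : Set G) ≤ normalizer (K : Set G) := by
    rw [hK]
    refine le_trans (le_inf le_normalizer ?_) inf_normalizer_le_normalizer_inf
    exact ((le_normalizer_o2 _).trans (normalizer_le_normalizer_zc _)).trans (norm_cent _)
  have hK2 : o2 K ≤ o2 (centralizer ({ρ} : Set G)) :=
    le_o2 ((o2_le K).trans hKa) (o2_isPGroup K) (hK1.trans (normalizer_le_normalizer_o2' K))
  refine hK2 (hN1 (mem_inf.2 ⟨hy, ?_⟩))
  rw [hK, mem_inf]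
  refine ⟨mem_cent.2 hyρ, mem_centralizer_iff.2 fun u hu => ?_⟩
  exact comm_iff.1 (hc u hu)

/-! ### `V₀` -/

section v0

variable {S P V0 : Subgroup G} {p : Fin 5 → G} (h : SV S P V0 p)
include h

theorem pair_notin {i j : Fin 5} (hij : i ≠ j) : p i * p j ∉ V0 := by
  intro hi
  obtain ⟨k, hk1, hk2, -⟩ := Fv.exists_fourth i j i
  obtain ⟨g, hg, hgs⟩ := h.full (Equiv.swap j k)
  have h2 := h.cen _ hi g hg
  rw [cm, hgs, hgs, Equiv.swap_apply_of_ne_of_ne hij hk1.symm, Equiv.swap_apply_left] at h2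
  exact hk2 (h.inj (mul_left_cancel h2))

theorem tri_notin {i j : Fin 5} (_ : i ≠ j) : p i * p j * p 4 ∉ V0 := by
  intro hi
  by_cases h4 : i = 4
  · rw [h4, h.comm 4 j, mul_assoc, h.sq, mul_one] at hi
    exact h.p_notin _ hi
  by_cases h4' : j = 4
  · rw [h4', mul_assoc, h.sq, mul_one] at hi
    exact h.p_notin _ hi
  obtain ⟨k, hk1, hk2, hk3⟩ := Fv.exists_fourth i j 4
  obtain ⟨g, hg, hgs⟩ := h.full (Equiv.swap 4 k)
  have h2 := h.cen _ hi g hg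
  rw [cm, cm, hgs, hgs, hgs, Equiv.swap_apply_of_ne_of_ne h4 hk1.symm, Equiv.swap_apply_of_ne_of_ne h4' hk2.symm,
    Equiv.swap_apply_left] at h2
  exact hk3 (h.inj (mul_left_cancel h2))

theorem pP (i : Fin 5) : p i ∈ P := h.le (h.pS i)

theorem v0_comm {v : G} (hv : v ∈ V0) (i : Fin 5) : v * p i = p i * v := by
  have h1 := h.cen v hv (p i) (pP h i)
  rw [comm_iff] at h1
  exact h1.symm

end v0

variable [Finite G]

variable (hG : IsCharacteristicTwoType G) (S : Sylow 2 G) {P V0 : Subgroup G} {p : Fin 5 → G}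
  (h : SV (S : Subgroup G) P V0 p)
include h

omit [Finite G] in
theorem T_perm {x : G} (hx : x ∈ TT (S : Subgroup G) p) : x * p 2 * x⁻¹ = p 2 ∨ x * p 2 * x⁻¹ = p 3 := by
  obtain ⟨h1, h2⟩ := mem_T.1 hx
  obtain ⟨σ, hσ⟩ := h.perm x (h.le h1)
  have h3 := h.T_a hx
  rw [aa, cm, hσ, hσ] at h3
  rcases h.pair_inj (fun e => absurd (σ.injective e) (by decide)) (by decide) h3 with ⟨e, -⟩ | ⟨e, -⟩
  · left; rw [hσ, e]
  · right; rw [hσ, e]

omit [Finite G] in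
theorem exists_two {Q : Subgroup G} (hQ : IsPGroup 2 Q) {x : G} (hx : x ∈ Q) : ∃ n : ℕ, x ^ 2 ^ n = 1 := by
  obtain ⟨n, hn⟩ := hQ ⟨x, hx⟩
  exact ⟨n, by simpa using congrArg Subtype.val hn⟩

/-- `O₂(C(n)) ∩ P` fixes `2`, `3`, `4` -/
theorem fix_of_mem {x : G} (hx : x ∈ o2 (centralizer ({nn p} : Set G))) (hP : x ∈ P) :
    ∃ σ, Ac p x σ ∧ σ 2 = 2 ∧ σ 3 = 3 ∧ σ 4 = 4 := by
  obtain ⟨σ, hσ⟩ := h.perm x hP
  have hn : x * nn p * x⁻¹ = nn p := mem_cent.1 (o2_le _ hx)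
  have h01 : (σ 0 = 0 ∧ σ 1 = 1) ∨ (σ 0 = 1 ∧ σ 1 = 0) := by
    rw [nn, cm, hσ, hσ] at hn
    exact h.pair_inj (fun e => absurd (σ.injective e) (by decide)) (by decide) hn
  obtain ⟨l, hl, hlσ⟩ := h.full (Equiv.swap (2 : Fin 5) 3 * Equiv.swap 3 4)
  have hln : l * nn p * l⁻¹ = nn p := by
    rw [nn, cm, hlσ, hlσ]
    rfl
  have hy : x * (l * x⁻¹ * l⁻¹) ∈ o2 (centralizer ({nn p} : Set G)) := mul_mem hx (o2_cent_conj hln (inv_mem hx))
  have hσ' : Ac p x σ := hσ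
  have hlσ' : Ac p l (Equiv.swap (2 : Fin 5) 3 * Equiv.swap 3 4) := hlσ
  rcases dec_fix σ h01 with h1 | ⟨h1, h2⟩ | ⟨h1, h2⟩
  · exact ⟨σ, hσ, h1⟩
  · exact absurd (odd_eq h.toFv (hσ'.mul hσ') (exists_two S h (o2_isPGroup _) (mul_mem hx hx)) h1) h2
  · exact absurd (odd_eq h.toFv (hσ'.mul ((hlσ'.mul hσ'.inv).mul hlσ'.inv))
      (exists_two S h (o2_isPGroup _) hy) h1) h2

include hG

theorem not_P {T₁ : Sylow 2 G} (t : R.TOne (S : Subgroup G) p T₁) {r : G} (hr : r ∈ (T₁ : Subgroup G))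
    (hrT : r ∉ TT (S : Subgroup G) p) : r ∉ P := by
  intro hP
  obtain ⟨σ, hσ⟩ := h.perm r hP
  have h1 := R.q_mem hG S h t hr hrT
  rw [aa, cm, hσ, hσ] at h1
  have h23 : σ 2 ≠ σ 3 := fun e => absurd (σ.injective e) (by decide)
  rcases h.zc4 _ h1 with h2 | h2
  · exact pair_notin h h23 h2
  · exact tri_notin h h23 h2

/-- **(1)** `O₂(C(n)) ≤ T` -/
theorem Q_le {T₁ : Sylow 2 G} (t : R.TOne (S : Subgroup G) p T₁) :
    o2 (centralizer ({nn p} : Set G)) ≤ TT (S : Subgroup G) p := by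
  intro w hw
  by_contra hwT
  have hT₁ : (T₁ : Subgroup G) ≤ centralizer ({nn p} : Set G) := fun x hx => mem_cent.2 (t.cen x hx)
  have hQT₁ : ∀ x ∈ o2 (centralizer ({nn p} : Set G)), x ∈ (T₁ : Subgroup G) := fun x hx =>
    o2_le_of_sylow T₁.isPGroup' (not_dvd_relIndex T₁ hT₁) hx
  have hwP : w ∉ P := not_P hG S h t (hQT₁ w hw) hwT
  obtain ⟨q, hq⟩ : ∃ q, q = w * aa p * w⁻¹ := ⟨_, rfl⟩
  have hqz : q ∈ zc (S : Subgroup G) := hq ▸ R.q_mem hG S h t (hQT₁ w hw) hwT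
  have hqq : q * q = 1 := by
    have := (mem_zc.1 hqz).2.2
    rwa [pow_two] at this
  have key : ∀ l ∈ P, l * nn p * l⁻¹ = nn p → w * (l * aa p * l⁻¹) * w⁻¹ = l * q * l⁻¹ := by
    intro l hl hln
    obtain ⟨u, hu⟩ : ∃ u, u = l⁻¹ * w * l := ⟨_, rfl⟩
    have huQ : u ∈ o2 (centralizer ({nn p} : Set G)) := hu ▸ o2_cent_conj' hln hw
    have huT : u ∉ TT (S : Subgroup G) p := fun h1 => hwP (by
      have h2 : u ∈ P := h.le (T_le h1)
      have e : w = l * u * l⁻¹ := by rw [hu]; group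
      rw [e]
      exact mul_mem (mul_mem hl h2) (inv_mem hl))
    have h2 := h.T_a (t.two w (hQT₁ w hw) u (hQT₁ u huQ) hwT huT)
    calc w * (l * aa p * l⁻¹) * w⁻¹ = l * (u * aa p * u⁻¹) * l⁻¹ := by rw [hu]; group
      _ = l * (w * ((w⁻¹ * u) * aa p * (w⁻¹ * u)⁻¹) * w⁻¹) * l⁻¹ := by group
      _ = l * q * l⁻¹ := by rw [h2, hq]
  obtain ⟨l, hl, hlp⟩ := h.full (Equiv.swap 3 4)
  obtain ⟨l', hl', hlp'⟩ := h.full (Equiv.swap 2 4)
  have hln : l * nn p * l⁻¹ = nn p := by rw [nn, cm, hlp, hlp]; rfl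
  have hln' : l' * nn p * l'⁻¹ = nn p := by rw [nn, cm, hlp', hlp']; rfl
  have hla : l * aa p * l⁻¹ = p 2 * p 4 := by rw [aa, cm, hlp, hlp]; rfl
  have hla' : l' * aa p * l'⁻¹ = p 4 * p 3 := by rw [aa, cm, hlp', hlp']; rfl
  have h1 := key l hl hln
  have h2 := key l' hl' hln'
  rw [hla] at h1
  rw [hla'] at h2
  have h3 : aa p * (p 2 * p 4) * (p 4 * p 3) = 1 := by
    have e : aa p * (p 2 * p 4) * (p 4 * p 3) = p 2 * p 3 * p 2 * (p 4 * p 4) * p 3 := by rw [aa]; group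
    rw [e, h.sq, mul_one, h.comm 2 3, mul_assoc (p 3), h.sq, mul_one, h.sq]
  have h4 : q * (l * q * l⁻¹) * (l' * q * l'⁻¹) = 1 := by
    have e : q * (l * q * l⁻¹) * (l' * q * l'⁻¹) = w * (aa p * (p 2 * p 4) * (p 4 * p 3)) * w⁻¹ := by
      rw [← h1, ← h2, hq]; group
    rw [e, h3]
    group
  have hq1 : q ≠ 1 := fun e => h.a_ne_one (conj_inj (g := w) (by rw [← hq, e]; group))
  rcases h.zc4 q hqz with h5 | h5
  · rw [h.cen q h5 l hl, h.cen q h5 l' hl', hqq, one_mul] at h4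
    exact hq1 h4
  · obtain ⟨v, hv⟩ : ∃ v, v = q * p 4 := ⟨_, rfl⟩
    rw [← hv] at h5
    have hqv : q = v * p 4 := by rw [hv, mul_assoc, h.sq, mul_one]
    have e1 : l * q * l⁻¹ = v * p 3 := by
      rw [hqv, cm, h.cen v h5 l hl, hlp]
      rfl
    have e2 : l' * q * l'⁻¹ = v * p 2 := by
      rw [hqv, cm, h.cen v h5 l' hl', hlp']
      rfl
    rw [e1, e2, hqv] at h4
    have c3 := v0_comm h h5 3
    have c4 := v0_comm h h5 4
    have hvv := h.v0_sq h5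
    have e3 : v * p 4 * (v * p 3) * (v * p 2) = v * (p 2 * p 3 * p 4) := by
      calc v * p 4 * (v * p 3) * (v * p 2) = v * (p 4 * v) * p 3 * v * p 2 := by group
        _ = v * v * p 4 * (p 3 * v) * p 2 := by rw [← c4]; group
        _ = v * v * (p 4 * v) * p 3 * p 2 := by rw [← c3]; group
        _ = v * v * v * (p 4 * (p 3 * p 2)) := by rw [← c4]; group
        _ = v * (p 2 * p 3 * p 4) := by
          rw [hvv, one_mul, h.comm 3 2, ← mul_assoc (p 4), h.comm 4 2, mul_assoc (p 2), h.comm 4 3, ← mul_assoc (p 2)]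
    rw [e3] at h4
    have e4 : p 2 * p 3 * p 4 = nn p := h.as
    rw [e4] at h4
    have e5 : v = nn p := by
      rw [← h.ninv]
      exact eq_inv_of_mul_eq_one_left h4
    exact h.n_notin (e5 ▸ h5)

section useT

variable {T₁ : Sylow 2 G} (t : R.TOne (S : Subgroup G) p T₁)
include t

theorem Q_act {q : G} (hq : q ∈ o2 (centralizer ({nn p} : Set G))) : Ac p q 1 ∨ Ac p q (Equiv.swap 0 1) := by
  obtain ⟨σ, hσ, s2, s3, s4⟩ := fix_of_mem S h hq (h.le (T_le (Q_le hG S h t hq)))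
  rcases dec_swap σ s2 s3 s4 with e | e
  · left; rwa [← e]
  · right; rwa [← e]

theorem Q_V {q x : G} (hq : q ∈ o2 (centralizer ({nn p} : Set G))) (hx : x ∈ zl (S : Subgroup G) P) :
    q * x * q⁻¹ = x ∨ q * x * q⁻¹ = nn p * x := by
  have hqP : q ∈ P := h.le (T_le (Q_le hG S h t hq))
  have hp : ∀ i, q * p i * q⁻¹ = p i ∨ q * p i * q⁻¹ = nn p * p i := by
    intro i
    rcases Q_act hG S h t hq with h1 | h1
    · left; exact h1 i
    · rw [h1 i]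
      have key : ∀ i : Fin 5, Equiv.swap (0 : Fin 5) 1 i = i ∨ (i = 0 ∧ Equiv.swap (0 : Fin 5) 1 i = 1) ∨
          (i = 1 ∧ Equiv.swap (0 : Fin 5) 1 i = 0) := by decide
      rcases key i with e | ⟨rfl, e⟩ | ⟨rfl, e⟩
      · left; rw [e]
      · right
        rw [e, nn, h.comm 0 1, mul_assoc, h.sq, mul_one]
      · right
        rw [e, nn, mul_assoc, h.sq, mul_one]
  have hcn : ∀ a ∈ closure (Set.range p), a * nn p = nn p * a := by
    intro a ha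
    induction ha using closure_induction with
    | mem x hx =>
      obtain ⟨i, rfl⟩ := hx
      exact (h.pcomm i).symm
    | one => rw [one_mul, mul_one]
    | mul x y _ _ hx hy => rw [mul_assoc, hy, ← mul_assoc, hx, mul_assoc]
    | inv x _ hx =>
      have : Commute x (nn p) := hx
      exact this.inv_left
  have key : ∀ a ∈ closure (Set.range p), q * a * q⁻¹ = a ∨ q * a * q⁻¹ = nn p * a := by
    intro a ha
    induction ha using closure_induction with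
    | mem x hx =>
      obtain ⟨i, rfl⟩ := hx
      exact hp i
    | one => left; group
    | mul x y hx' hy' hx hy =>
      rw [cm]
      rcases hx with e | e <;> rcases hy with e' | e' <;> rw [e, e']
      · left; rfl
      · right
        rw [← mul_assoc, hcn x hx', mul_assoc]
      · right
        rw [mul_assoc]
      · left
        rw [mul_assoc, ← mul_assoc x, hcn x hx', ← mul_assoc, ← mul_assoc, h.nsq, one_mul]
    | inv x hx' hx =>
      have e0 : q * x⁻¹ * q⁻¹ = (q * x * q⁻¹)⁻¹ := by group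
      rcases hx with e | e
      · left; rw [e0, e]
      · right; rw [e0, e, mul_inv_rev, h.ninv, hcn _ (inv_mem hx')]
  obtain ⟨v, hv, a, ha, rfl⟩ := h.zlV x hx
  have hvn : v * nn p = nn p * v := by
    rw [nn, ← mul_assoc, v0_comm h hv 0, mul_assoc, v0_comm h hv 1, mul_assoc]
  rcases key a ha with e | e
  · left
    rw [cm, h.cen v hv q hqP, e]
  · right
    rw [cm, h.cen v hv q hqP, e, ← mul_assoc, hvn, mul_assoc]

theorem V_Q {x : G} (hx : x ∈ zl (S : Subgroup G) P) : x ∈ o2 (centralizer ({nn p} : Set G)) := by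
  have hxn : nn p * x = x * nn p := by
    have h1 := h.n_V
    exact zl_comm h.le S.isPGroup' (not_dvd_relIndex S h.le) (h.par.isLoc.char2 S hG) _ h1 _ hx
  refine le_o2_of_comm hG (by rw [sq]; exact h.nsq) h.n_ne_one hxn.symm fun q hq => ?_
  rcases Q_V hG S h t hq hx with h1 | h1
  · left
    rw [comm_iff] at h1
    calc x * q * x⁻¹ * q⁻¹ = (q * x) * x⁻¹ * q⁻¹ := by rw [h1]
      _ = 1 := by group
  · right
    have h2 : q * x = nn p * x * q := by rw [← h1]; group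
    calc x * q * x⁻¹ * q⁻¹ = nn p * nn p * x * q * x⁻¹ * q⁻¹ := by rw [h.nsq, one_mul]
      _ = nn p * (nn p * x * q) * x⁻¹ * q⁻¹ := by group
      _ = nn p * (q * x) * x⁻¹ * q⁻¹ := by rw [h2]
      _ = nn p := by group

theorem zcQ_D : zc (o2 (centralizer ({nn p} : Set G))) ≤ o2 P := by
  intro x hx
  obtain ⟨h1, h2, -⟩ := mem_zc.1 hx
  refine (h.mem_D hG S).2 ⟨T_le (Q_le hG S h t h1), fun i => ?_⟩
  rw [comm_iff]
  exact (h2 _ (V_Q hG S h t (h.pV i))).symm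

theorem p_zcQ {i : Fin 5} (h0 : i ≠ 0) (h1 : i ≠ 1) : p i ∈ zc (o2 (centralizer ({nn p} : Set G))) := by
  refine mem_zc.2 ⟨V_Q hG S h t (h.pV i), fun q hq => ?_, by rw [pow_two]; exact h.sq i⟩
  rw [← comm_iff]
  rcases Q_act hG S h t hq with h2 | h2
  · exact h2 i
  · rw [h2 i, Equiv.swap_apply_of_ne_of_ne h0 h1]

/-- `zc(O₂(C(x))) ≤ D` for `P`-conjugates `x` of `n` -/
theorem zcQ_D' {g x : G} (hg : g ∈ P) (e : g * nn p * g⁻¹ = x) : zc (o2 (centralizer ({x} : Set G))) ≤ o2 P := by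
  intro u hu
  have h1 := zcQ_D hG S h t (zc_conj' e hu)
  have h2 := (mem_normalizer_iff.1 (le_normalizer_o2 P hg) _).1 h1
  have e2 : g * (g⁻¹ * u * g) * g⁻¹ = u := by group
  rwa [e2] at h2

end useT

end Cfsg.Agent.Omega.F4Leaf.Cen.Q

end

section


/-!
# LeafF4, `m = 2`, `n` 2-central (bb OMEGA #18108 (2)): `v = r a r⁻¹ ∈ V₀` and the output structure `Out`
-/

set_option autoImplicit false
set_option linter.unusedSectionVars false

namespace Cfsg.Agent.Omega.F4Leaf.Cen.V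

open Subgroup Cfsg Cfsg.Agent.MinSimple.VModule Pointwise
open Cfsg.Agent.MinSimple.Basic (not_dvd_relIndex char2_centralizer)
open Cfsg.Agent.ZN (zc zl o2)
open Cfsg.Agent.Omega.S5.Mod (le_o2_of_comm)
open Cfsg.Agent.Omega.NTwo (Fv D8 nn aa cm cc ci conj_inj comm_iff mem_cent o2_cent_conj o2_cent_conj' norm_zc_cent
  mem_zc_of norm_cent)
open Cfsg.Agent.Omega.F4Leaf.Cen.Q

universe u

variable {G : Type u} [Group G]

/-- the element inducing `(0 1)` -/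
structure El (p : Fin 5 → G) (e : G) : Prop where
  e0 : e * p 0 * e⁻¹ = p 1
  en : e * nn p * e⁻¹ = nn p
  eQ : ∀ q ∈ o2 (centralizer ({nn p} : Set G)), e * q * e⁻¹ = q ∨ e * q * e⁻¹ = nn p * q

variable [Finite G] (hG : IsCharacteristicTwoType G) (S : Sylow 2 G) {P V0 : Subgroup G} {p : Fin 5 → G}
  (h : SV (S : Subgroup G) P V0 p)
include hG h

theorem e_mem {e : G} (E : El p e) : e ∈ o2 (centralizer ({nn p} : Set G)) := by
  refine le_o2_of_comm hG (by rw [sq]; exact h.nsq) h.n_ne_one (comm_iff.1 E.en) fun q hq => ?_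
  rcases E.eQ q hq with h1 | h1
  · left; rw [h1]; group
  · right; rw [h1]; group

variable {T₁ : Sylow 2 G} (t : R.TOne (S : Subgroup G) p T₁)
include t

theorem e_ac {e : G} (E : El p e) : Ac p e (Equiv.swap 0 1) := by
  refine (Q_act hG S h t (e_mem hG S h E)).resolve_left fun h1 => ?_
  have h2 := E.e0
  rw [h1 0] at h2
  exact absurd (h.inj h2) (by decide)

/-- conjugates of `e` -/
theorem conj_e {e : G} (E : El p e) {g ρ : G} (hg : g * nn p * g⁻¹ = ρ) :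
    g * e * g⁻¹ ∈ o2 (centralizer ({ρ} : Set G)) ∧ ∀ q ∈ o2 (centralizer ({ρ} : Set G)),
      (g * e * g⁻¹) * q * (g * e * g⁻¹)⁻¹ = q ∨ (g * e * g⁻¹) * q * (g * e * g⁻¹)⁻¹ = ρ * q := by
  refine ⟨o2_cent_conj hg (e_mem hG S h E), fun q hq => ?_⟩
  have e1 : (g * e * g⁻¹) * q * (g * e * g⁻¹)⁻¹ = g * (e * (g⁻¹ * q * g) * e⁻¹) * g⁻¹ := by group
  rcases E.eQ _ (o2_cent_conj' hg hq) with h1 | h1
  · left; rw [e1, h1]; group
  · right; rw [e1, h1, ← hg]; group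

/-- **(2)** `q = r a r⁻¹ ∈ V₀` -/
theorem v_mem {e : G} (E : El p e) {r : G} (hr : r ∈ (T₁ : Subgroup G)) (hrT : r ∉ TT (S : Subgroup G) p) :
    r * aa p * r⁻¹ ∈ V0 := by
  obtain ⟨q, hq⟩ : ∃ q, q = r * aa p * r⁻¹ := ⟨_, rfl⟩
  have hqS : q ∈ zc (S : Subgroup G) := hq ▸ R.q_mem hG S h t hr hrT
  have hqa : q ≠ aa p := hq ▸ R.ra_ne S h t hr hrT
  have hq1 : q ≠ 1 := fun e => h.a_ne_one (conj_inj (g := r) (by rw [← hq, e]; group))
  have hrn : r * nn p * r⁻¹ = nn p := t.cen r hr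
  have hD : ∀ {g : G}, g ∈ P → ∀ {d : G}, d ∈ o2 P → g * d * g⁻¹ ∈ o2 P := fun hg d hd =>
    (mem_normalizer_iff.1 (le_normalizer_o2 P hg) _).1 hd
  have hDp : ∀ {d : G}, d ∈ o2 P → ∀ i, d * p i * d⁻¹ = p i := fun hd => ((h.mem_D hG S).1 hd).2
  have hQT := Q_le hG S h t
  have heQ := e_mem hG S h E
  have hea := e_ac hG S h t E
  rw [← hq]
  -- `m`
  obtain ⟨m, hm⟩ : ∃ m, m = r * p 2 * r⁻¹ := ⟨_, rfl⟩
  have hp2z : p 2 ∈ zc (o2 (centralizer ({nn p} : Set G))) := p_zcQ hG S h t (by decide) (by decide)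
  have hmz : m ∈ zc (o2 (centralizer ({nn p} : Set G))) := hm ▸ norm_zc_cent hrn hp2z
  have hmD : m ∈ o2 P := zcQ_D hG S h t hmz
  have hp3 : p 3 = aa p * p 2 := by rw [aa, h.comm 2 3, mul_assoc, h.sq, mul_one]
  have hm3 : r * p 3 * r⁻¹ = q * m := by rw [hp3, cm, hm, hq]
  have hTm : ∀ τ ∈ TT (S : Subgroup G) p, τ * m * τ⁻¹ = m ∨ τ * m * τ⁻¹ = q * m := by
    intro τ hτ
    have h1 : r⁻¹ * τ * r ∈ TT (S : Subgroup G) p := by
      have := (mem_normalizer_iff.1 (inv_mem (t.nrm hr)) τ).1 hτ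
      rwa [inv_inv] at this
    have e1 : τ * m * τ⁻¹ = r * (r⁻¹ * τ * r * p 2 * (r⁻¹ * τ * r)⁻¹) * r⁻¹ := by rw [hm]; group
    rcases T_perm S h h1 with h2 | h2
    · left; rw [e1, h2, hm]
    · right; rw [e1, h2, hm3]
  -- `w = x e x⁻¹`
  obtain ⟨x, hx, hxp⟩ := h.tau
  have hxA : Ac p x Mod.χ := hxp
  have hxn : x * nn p * x⁻¹ = aa p := by rw [nn, cm, hxp, hxp]; rfl
  have hxa : x * aa p * x⁻¹ = nn p := h.a_eq_conj hx hxn
  obtain ⟨hwQ, hwc⟩ := conj_e hG S h t E hxn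
  have hwA : Ac p (x * e * x⁻¹) (Equiv.swap 2 3) := by
    have h1 := (hxA.mul hea).mul hxA.inv
    have e1 : Mod.χ * Equiv.swap 0 1 * Mod.χ⁻¹ = Equiv.swap 2 3 := by decide +kernel
    rwa [e1] at h1
  obtain ⟨w, hw⟩ : ∃ w, w = x * e * x⁻¹ := ⟨_, rfl⟩
  rw [← hw] at hwQ hwc hwA
  have hwT : w ∈ TT (S : Subgroup G) p := hw ▸ (mem_normalizer_iff.1 (h.le_norm_T hx) _).1 (hQT heQ)
  -- Claim A
  have hA : ∃ d ∈ o2 P, d * m * d⁻¹ = q * m := by
    by_contra hcon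
    push Not at hcon
    have hDm : ∀ d ∈ o2 P, d * m * d⁻¹ = m := fun d hd =>
      (hTm d (h.D_le_T hG S hd)).resolve_right (hcon d hd)
    have hnz : nn p ∈ zc (o2 (centralizer ({aa p} : Set G))) := by
      have haz : aa p ∈ zc (o2 (centralizer ({nn p} : Set G))) :=
        mul_mem hp2z (p_zcQ hG S h t (by decide) (by decide))
      have := zc_conj hxn haz
      rwa [hxa] at this
    have hmQ : m ∈ o2 (centralizer ({aa p} : Set G)) := by
      refine fact hnz hmz ?_ fun u hu => hDm u ?_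
      · rw [aa, cm, hDp hmD, hDp hmD]
      · have h1 := zcQ_D hG S h t (zc_conj' hxn hu)
        have h2 := hD (h.le hx) h1
        have e1 : x * (x⁻¹ * u * x) * x⁻¹ = u := by group
        rwa [e1] at h2
    -- elements of `T` fixing `p 2` centralise `m`
    have hem : e * m * e⁻¹ = m := comm_iff.2 ((mem_zc.1 hmz).2.1 e heQ)
    have hfix : ∀ τ ∈ TT (S : Subgroup G) p, τ * p 2 * τ⁻¹ = p 2 → τ * m * τ⁻¹ = m := by
      intro τ hτ h2
      obtain ⟨σ, hσ⟩ := h.perm τ (h.le (T_le hτ))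
      have hσ' : Ac p τ σ := hσ
      have k2 : σ 2 = 2 := h.inj (by rw [← hσ, h2])
      have k4 : σ 4 = 4 := h.inj (by rw [← hσ, h.fix (T_le hτ)])
      have k3 : σ 3 = 3 := by
        have h3 := h.T_a hτ
        rw [aa, cm, h2, hσ] at h3
        exact h.inj (mul_left_cancel h3)
      rcases dec_swap σ k2 k3 k4 with e1 | e1
      · exact hDm τ ((h.mem_D hG S).2 ⟨T_le hτ, fun i => by rw [hσ, e1]; rfl⟩)
      · have h3 : e⁻¹ * τ ∈ o2 P := by
          refine (h.mem_D hG S).2 ⟨mul_mem (inv_mem (T_le (hQT heQ))) (T_le hτ), fun i => ?_⟩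
          have h4 := hea.inv.mul hσ' i
          rw [h4, e1]
          simp
        calc τ * m * τ⁻¹ = e * ((e⁻¹ * τ) * m * (e⁻¹ * τ)⁻¹) * e⁻¹ := by group
          _ = m := by rw [hDm _ h3, hem]
    -- `w` moves `m`
    have hw2 : w * p 2 * w⁻¹ = p 3 := by rw [hwA 2]; rfl
    have hrwT : r * w * r⁻¹ ∈ TT (S : Subgroup G) p := (mem_normalizer_iff.1 (t.nrm hr) _).1 hwT
    have hrwm : (r * w * r⁻¹) * m * (r * w * r⁻¹)⁻¹ = q * m := by
      calc (r * w * r⁻¹) * m * (r * w * r⁻¹)⁻¹ = r * (w * p 2 * w⁻¹) * r⁻¹ := by rw [hm]; group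
        _ = q * m := by rw [hw2, hm3]
    have hrw2 : (r * w * r⁻¹) * p 2 * (r * w * r⁻¹)⁻¹ = p 3 := by
      refine (T_perm S h hrwT).resolve_left fun h3 => hq1 ?_
      have h4 := hfix _ hrwT h3
      rw [hrwm] at h4
      exact mul_eq_right.1 h4
    have hwm : w * m * w⁻¹ = q * m := by
      have h3 : (w⁻¹ * (r * w * r⁻¹)) * p 2 * (w⁻¹ * (r * w * r⁻¹))⁻¹ = p 2 := by
        calc (w⁻¹ * (r * w * r⁻¹)) * p 2 * (w⁻¹ * (r * w * r⁻¹))⁻¹
            = w⁻¹ * ((r * w * r⁻¹) * p 2 * (r * w * r⁻¹)⁻¹) * w := by group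
          _ = w⁻¹ * (w * p 2 * w⁻¹) * w := by rw [hrw2, hw2]
          _ = p 2 := by group
      have h4 := hfix _ (mul_mem (inv_mem hwT) hrwT) h3
      calc w * m * w⁻¹ = w * ((w⁻¹ * (r * w * r⁻¹)) * m * (w⁻¹ * (r * w * r⁻¹))⁻¹) * w⁻¹ := by rw [h4]
        _ = (r * w * r⁻¹) * m * (r * w * r⁻¹)⁻¹ := by group
        _ = q * m := hrwm
    rcases hwc m hmQ with h3 | h3
    · rw [hwm] at h3
      exact hq1 (mul_eq_right.1 h3)
    · rw [hwm] at h3
      exact hqa (mul_right_cancel h3)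
  obtain ⟨d, hd, hdm⟩ := hA
  -- Claim B
  obtain ⟨g, hg, hgp⟩ := h.full (Equiv.swap 0 2 * (Equiv.swap 1 4 * Equiv.swap 4 3))
  have hgA : Ac p g (Equiv.swap 0 2 * (Equiv.swap 1 4 * Equiv.swap 4 3)) := hgp
  have hgn : g * nn p * g⁻¹ = p 2 * p 4 := by
    rw [nn, cm, hgp, hgp]
    rfl
  obtain ⟨hw'Q, hw'c⟩ := conj_e hG S h t E hgn
  have hw'A : Ac p (g * e * g⁻¹) (Equiv.swap 2 4) := by
    have h1 := (hgA.mul hea).mul hgA.inv
    have e1 : (Equiv.swap 0 2 * (Equiv.swap 1 4 * Equiv.swap 4 3)) * Equiv.swap 0 1 *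
        (Equiv.swap 0 2 * (Equiv.swap 1 4 * Equiv.swap 4 3))⁻¹ = (Equiv.swap 2 4 : Equiv.Perm (Fin 5)) := by
      decide +kernel
    rwa [e1] at h1
  obtain ⟨w', hw'⟩ : ∃ w', w' = g * e * g⁻¹ := ⟨_, rfl⟩
  rw [← hw'] at hw'Q hw'c hw'A
  have hw'P : w' ∈ P := hw' ▸ mul_mem (mul_mem hg (h.le (T_le (hQT heQ)))) (inv_mem hg)
  have hUD := zcQ_D' hG S h t hg hgn
  have hDρ : ∀ {y : G}, y ∈ o2 P → y * (p 2 * p 4) * y⁻¹ = p 2 * p 4 := fun hy => by rw [cm, hDp hy, hDp hy]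
  have hnρ : nn p ∈ zc (o2 (centralizer ({p 2 * p 4} : Set G))) := by
    have h1 := zc_conj hgn (mul_mem hp2z (p_zcQ hG S h t (i := 3) (by decide) (by decide)))
    rw [cm, hgp, hgp] at h1
    exact h1
  have hw'q : w' * q * w'⁻¹ = q := by
    by_cases hcase : ∀ u ∈ zc (o2 (centralizer ({p 2 * p 4} : Set G))), u * m * u⁻¹ = m
    · have hmQ := fact hnρ hmz (hDρ hmD) hcase
      obtain ⟨b, hb⟩ : ∃ b, b = w' * d * w'⁻¹ := ⟨_, rfl⟩
      have hbD : b ∈ o2 P := hb ▸ hD hw'P hd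
      have h1 : b * (w' * m * w'⁻¹) * b⁻¹ = (w' * q * w'⁻¹) * (w' * m * w'⁻¹) := by
        calc b * (w' * m * w'⁻¹) * b⁻¹ = w' * (d * m * d⁻¹) * w'⁻¹ := by rw [hb]; group
          _ = (w' * q * w'⁻¹) * (w' * m * w'⁻¹) := by rw [hdm, cm]
      have h2 : b * m * b⁻¹ = (w' * q * w'⁻¹) * m := by
        rcases hw'c m hmQ with h3 | h3
        · rwa [h3] at h1
        · rw [h3, cm, hDρ hbD] at h1
          -- `ρ * (b m b⁻¹) = (w' q w'⁻¹) * (ρ * m)`
          have h4 : (w' * q * w'⁻¹) * (p 2 * p 4) = (p 2 * p 4) * (w' * q * w'⁻¹) := by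
            have h5 : q * (p 2 * p 4) = (p 2 * p 4) * q := by
              rw [← (mem_zc.1 hqS).2.1 _ (mul_mem (h.pS 2) (h.pS 4))]
            have h6 : w' * (p 2 * p 4) * w'⁻¹ = p 2 * p 4 := by
              rw [cm, hw'A, hw'A]
              exact h.comm _ _
            calc (w' * q * w'⁻¹) * (p 2 * p 4) = w' * q * w'⁻¹ * (w' * (p 2 * p 4) * w'⁻¹) := by rw [h6]
              _ = w' * (q * (p 2 * p 4)) * w'⁻¹ := by group
              _ = w' * (p 2 * p 4) * w'⁻¹ * (w' * q * w'⁻¹) := by rw [h5]; group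
              _ = _ := by rw [h6]
          exact mul_left_cancel (h1.trans (by rw [← mul_assoc, h4, mul_assoc]))
      rcases hTm b (h.D_le_T hG S hbD) with h3 | h3
      · exfalso
        rw [h3] at h2
        have h4 : w' * q * w'⁻¹ = 1 := mul_eq_right.1 h2.symm
        exact hq1 (conj_inj (g := w') (by rw [h4]; group))
      · rw [h3] at h2
        exact (mul_right_cancel h2).symm
    · push Not at hcase
      obtain ⟨u, hu, hum⟩ := hcase
      have h1 := (hTm u (h.D_le_T hG S (hUD hu))).resolve_left hum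
      have h2 : q ∈ zc (o2 (centralizer ({p 2 * p 4} : Set G))) := by
        have h3 := mul_mem hu (norm_zc_cent (hDρ hmD) (inv_mem hu))
        have e1 : u * (m * u⁻¹ * m⁻¹) = q := by
          calc u * (m * u⁻¹ * m⁻¹) = u * m * u⁻¹ * m⁻¹ := by group
            _ = q := by rw [h1]; group
        rwa [e1] at h3
      exact comm_iff.2 ((mem_zc.1 h2).2.1 w' hw'Q)
  -- the end
  refine (h.zc4 q hqS).resolve_right fun h5 => ?_
  obtain ⟨v, hv⟩ : ∃ v, v = q * p 4 := ⟨_, rfl⟩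
  rw [← hv] at h5
  have hqv : q = v * p 4 := by rw [hv, mul_assoc, h.sq, mul_one]
  rw [hqv, cm, h.cen v h5 w' hw'P, hw'A 4, Equiv.swap_apply_right] at hw'q
  exact absurd (h.inj (mul_left_cancel hw'q)) (by decide)

omit t in
/-- **The output of (0)-(2).** -/
theorem exists_out (hN : NCen p) {e : G} (E : El p e) : ∃ r v w, Out S P V0 p r v e w := by
  obtain ⟨T₁, t⟩ := R.exists_tOne S h hN
  obtain ⟨r, hr, hrT⟩ := t.ex
  obtain ⟨g, hg, hgp⟩ := h.full (Equiv.swap 0 2 * (Equiv.swap 1 4 * Equiv.swap 4 3))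
  have hgA : Ac p g (Equiv.swap 0 2 * (Equiv.swap 1 4 * Equiv.swap 4 3)) := hgp
  have hgn : g * nn p * g⁻¹ = p 2 * p 4 := by
    rw [nn, cm, hgp, hgp]
    rfl
  have hea := e_ac hG S h t E
  obtain ⟨hw'Q, hw'c⟩ := conj_e hG S h t E hgn
  have hw'A : Ac p (g * e * g⁻¹) (Equiv.swap 2 4) := by
    have h1 := (hgA.mul hea).mul hgA.inv
    have e1 : (Equiv.swap 0 2 * (Equiv.swap 1 4 * Equiv.swap 4 3)) * Equiv.swap 0 1 *
        (Equiv.swap 0 2 * (Equiv.swap 1 4 * Equiv.swap 4 3))⁻¹ = (Equiv.swap 2 4 : Equiv.Perm (Fin 5)) := by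
      decide +kernel
    rwa [e1] at h1
  have hp2z := p_zcQ hG S h t (i := 2) (by decide) (by decide)
  have hnρ : nn p ∈ zc (o2 (centralizer ({p 2 * p 4} : Set G))) := by
    have h1 := zc_conj hgn (mul_mem hp2z (p_zcQ hG S h t (i := 3) (by decide) (by decide)))
    rw [cm, hgp, hgp] at h1
    exact h1
  refine ⟨r, r * aa p * r⁻¹, g * e * g⁻¹, { h with
    char2 := hG
    r_T := t.nrm hr
    r_sq := R.rr_mem S h t hr hrT
    r_n := t.cen r hr
    r_a := rfl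
    r_v := R.rr_a S h t hr hrT
    v_mem := v_mem hG S h t E hr hrT
    Q_T := Q_le hG S h t
    V_Q := fun x hx => V_Q hG S h t hx
    Q_V := fun q hq x hx => Q_V hG S h t hq hx
    zcQ_D := zcQ_D hG S h t
    e_mem := e_mem hG S h E
    e_p := hea
    w_mem := hw'Q
    w_p := hw'A
    w_Q := hw'c
    zcQ'_D := zcQ_D' hG S h t hg hgn
    fact := fun y hy hc => fact hnρ hy ?_ fun u hu => comm_iff.2 (hc u hu).symm }⟩
  have h1 := ((h.mem_D hG S).1 (zcQ_D hG S h t hy)).2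
  rw [cm, h1, h1]

end Cfsg.Agent.Omega.F4Leaf.Cen.V

end

section


/-!
# LeafF4, `m = 2`, `n` 2-central (bb OMEGA #18108): the interface to the labelled positions

`NatSide` : natural partner; `TTSide` : both members of type `S₅`.
-/

set_option autoImplicit false

namespace Cfsg.Agent.Omega.F4Leaf.Cen

open Subgroup Cfsg
open Cfsg.Agent.ZN (zc zl o2)
open Cfsg.Agent.ZN.ChoiceBase (cj)
open Cfsg.Agent.Omega.FrameFF (cv)
open Cfsg.Agent.Omega.NTwo (nn aa)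
open Cfsg.Agent.Omega.F4Leaf.Cen.V (El)

universe u

variable {G : Type u} [Group G]

/-- The position with a natural partner `W = (V_{P₂})^y`. -/
structure NatSide (S P P₂ : Subgroup G) (y : G) (p : Fin 5 → G) (e : G) : Prop where
  sv : SV S P (cv S P) p
  ncen : NCen p
  el : El p e
  e_mem : e ∈ cj y (zl S P₂)
  n_mem : nn p ∈ cj y (zl S P₂)
  W_Q : cj y (zl S P₂) ≤ o2 (centralizer ({nn p} : Set G))
  Q_W : ∀ q ∈ o2 (centralizer ({nn p} : Set G)), ∀ w ∈ cj y (zl S P₂), q * w * q⁻¹ = w ∨ q * w * q⁻¹ = nn p * w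

/-- The position with two members of type `S₅`. -/
structure TTSide (S P P₂ : Subgroup G) (y : G) (p : Fin 5 → G) (e : G) (p₂ : Fin 5 → G) (e₂ : G) : Prop where
  sv : SV S P (cv S P) p
  ncen : NCen p
  el : El p e
  e_mem : e ∈ cj y (zl S P₂)
  sv₂ : SV S P₂ (cv S P₂) p₂
  ncen₂ : NCen p₂
  el₂ : El p₂ e₂
  e₂_mem : y * e₂ * y⁻¹ ∈ zl S P
  nn₂ : y * nn p₂ * y⁻¹ = nn p
  ne : e * (y * e₂ * y⁻¹) ≠ (y * e₂ * y⁻¹) * e

end Cfsg.Agent.Omega.F4Leaf.Cen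

end

section


/-!
# LeafF4, `m = 2`, `n` 2-central: the standard position `SV` from `Split`
-/

set_option autoImplicit false
set_option linter.unusedSectionVars false

namespace Cfsg.Agent.Omega.F4Leaf.Cen.Std

open Subgroup Cfsg Cfsg.Agent.MinSimple.VModule Pointwise
open Cfsg.Agent.MinSimple.Basic (not_dvd_relIndex char2_centralizer)
open Cfsg.Agent.ZN (zc zl o2)
open Cfsg.Agent.Omega.MinPar (IsPar IsParS IsLoc)
open Cfsg.Agent.Omega.FrameFF (cv)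
open Cfsg.Agent.Omega.S5.Def Cfsg.Agent.Omega.S5.Syl
open Cfsg.Agent.Omega.F4Leaf.Def
open Cfsg.Agent.Omega.NTwo (Fv D8 D8_fix D8_one exists_D8 nn aa cm cc ci conj_inj comm_iff mem_cent mem_smul)

universe u

variable {G : Type u} [Group G]

/-- `S` acts as the dihedral group after relabelling -/
theorem exists_d8 [Finite G] (S : Sylow 2 G) {P : Subgroup G} {p : Fin 5 → G} (h : Fv P p)
    (hSP : (S : Subgroup G) ≤ P) :
    ∃ ρ : Equiv.Perm (Fin 5), (∀ x ∈ (S : Subgroup G), ∃ d ∈ D8, ∀ i, x * p (ρ i) * x⁻¹ = p (ρ (d i))) ∧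
      ∀ d ∈ D8, ∃ x ∈ (S : Subgroup G), ∀ i, x * p (ρ i) * x⁻¹ = p (ρ (d i)) := by
  have hp : Fact (Nat.Prime 2) := ⟨Nat.prime_two⟩
  obtain ⟨φ, hφs, hφ⟩ := h.exists_hom
  obtain ⟨D, hD⟩ := exists_D8
  obtain ⟨ρ, hρ⟩ := MulAction.exists_smul_eq (Equiv.Perm (Fin 5)) D ((S.subtype hSP).mapSurjective hφs)
  have h1 : ∀ σ, σ ∈ ((S : Subgroup G).subgroupOf P).map φ ↔ ρ⁻¹ * σ * ρ ∈ D8 := by
    intro σ
    have h2 : (((S.subtype hSP).mapSurjective hφs : Sylow 2 (Equiv.Perm (Fin 5))) : Subgroup _) =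
        ((S : Subgroup G).subgroupOf P).map φ := by
      rw [Sylow.coe_mapSurjective]; rfl
    rw [← h2, ← hρ, ← hD]
    exact mem_smul
  refine ⟨ρ, ?_, ?_⟩
  · intro x hx
    have h2 : φ ⟨x, hSP hx⟩ ∈ ((S : Subgroup G).subgroupOf P).map φ := ⟨_, mem_subgroupOf.2 hx, rfl⟩
    refine ⟨_, (h1 _).1 h2, fun i => ?_⟩
    have h3 := hφ ⟨x, hSP hx⟩ (ρ i)
    change x * p (ρ i) * x⁻¹ = _ at h3
    rw [h3, Equiv.Perm.mul_apply, Equiv.Perm.mul_apply]
    rw [show ρ (ρ⁻¹ _) = _ from ρ.apply_symm_apply _]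
  · intro d hd
    have h2 : ρ * d * ρ⁻¹ ∈ ((S : Subgroup G).subgroupOf P).map φ := by
      rw [h1]
      have e : ρ⁻¹ * (ρ * d * ρ⁻¹) * ρ = d := by group
      rwa [e]
    obtain ⟨x, hx, h3⟩ := h2
    refine ⟨x, mem_subgroupOf.1 hx, fun i => ?_⟩
    have h4 := hφ x (ρ i)
    rw [h4, h3, Equiv.Perm.mul_apply, Equiv.Perm.mul_apply]
    rw [show ρ⁻¹ (ρ i) = i from ρ.symm_apply_apply _]

theorem dec_block : ∀ i j : Fin 5, i ≠ j → Equiv.swap i j ∈ D8 → ∃ δ ∈ D8, δ 0 = i ∧ δ 1 = j := by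
  decide +kernel

variable [Finite G] (hG : IsCharacteristicTwoType G) (S : Sylow 2 G) {P A : Subgroup G}
  {ε : (Fin (2 ^ 2 + 1) → ZMod 2) → G} (hs : Split (S : Subgroup G) P 2 A ε) (hP : IsParS (S : Subgroup G) P)
include hG hs hP

theorem V_le_S : zl (S : Subgroup G) P ≤ (S : Subgroup G) :=
  ((hP.isLoc.zl_le S hG).trans (zc_le _)).trans (hP.isLoc.o2_le S)

/-- 871's structure with `Y = Ω₁Z(O₂(P))` -/
theorem big : App.Big (S : Subgroup G) P (cv (S : Subgroup G) P) A (zc (o2 P)) ε where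
  ev := hs.even
  fix0 := hs.fix0
  le := hP.le
  comm y hy y' hy' := (mem_zc.1 hy').2.1 _ (zc_le _ hy)
  sq y hy := by
    have := (mem_zc.1 hy).2.2
    rwa [pow_two] at this
  ge := hs.A_le.trans (hP.isLoc.zl_le S hG)
  nrm g hg y hy := (mem_normalizer_iff.1 (normalizer_le_normalizer_zc _ (le_normalizer_o2 P hg)) y).1 hy
  syl s hsS hsA := by
    have h1 : s ∈ o2 P := by
      rw [← hP.inf_centralizer S hG, mem_inf, mem_centralizer_iff]
      refine ⟨hsS, fun y hy => ?_⟩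
      obtain ⟨v, hv, a, ha, rfl⟩ := hs.mul_eq hG hP hy
      have h2 : s * v = v * s := hs.comm (hP.le hsS) hv
      have h3 : a * s = s * a := mem_centralizer_iff.1 hsA a ha
      rw [mul_assoc, h3, ← mul_assoc, ← h2, mul_assoc]
    rw [mem_centralizer_iff]
    intro y hy
    exact ((mem_zc.1 hy).2.1 s h1).symm
  cz v hv g hg := hs.comm hg hv
  fixed y hy hyS := by
    have h1 : y ∈ zc (S : Subgroup G) :=
      mem_zc.2 ⟨hP.isLoc.o2_le S (zc_le _ hy), hyS, (mem_zc.1 hy).2.2⟩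
    rcases hs.zc_mul hG hP (by norm_num) h1 with h2 | h2
    · exact ⟨y, h2, Or.inl rfl⟩
    · refine ⟨_, h2, Or.inr ?_⟩
      rw [mul_assoc, hs.even.sq, mul_one]

/-- **The standard position.** -/
theorem exists_sv {i j : Fin 5} (hij : i ≠ j) {b : G} (hb : b ∈ (S : Subgroup G))
    (hbs : Acts ε b (Equiv.swap (α := Fin (2 ^ 2 + 1)) i j)) :
    ∃ ρ : Equiv.Perm (Fin 5), ρ 0 = i ∧ ρ 1 = j ∧
      SV (S : Subgroup G) P (cv (S : Subgroup G) P) (fun k => ε (Pi.single (M := fun _ : Fin (2 ^ 2 + 1) => ZMod 2) (ρ k) 1)) := by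
  obtain ⟨p, hp⟩ : ∃ p : Fin 5 → G, p = fun k => ε (Pi.single (M := fun _ : Fin (2 ^ 2 + 1) => ZMod 2) k 1) := ⟨_, rfl⟩
  have hpk : ∀ k, ε (Pi.single (M := fun _ : Fin (2 ^ 2 + 1) => ZMod 2) k 1) = p k := fun k => by rw [hp]
  obtain ⟨hF, hA⟩ := NTwo.Zero.fv_of_even (show EvenSet 5 A P ε from hs.even)
  have hF : Fv P p := by rw [hp]; exact hF
  have hA : A = closure (Set.range p) := by rw [hp]; exact hA
  have hac : ∀ {g : G} {σ : Equiv.Perm (Fin 5)}, Acts (n := 2 ^ 2 + 1) ε g σ → ∀ k, g * p k * g⁻¹ = p (σ k) := by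
    intro g σ hg k
    rw [hp]
    exact hg.single k
  obtain ⟨ρ, h1, h2⟩ := exists_d8 S hF hP.le
  obtain ⟨d, hd, hdb⟩ := h1 b hb
  have hde : d = Equiv.swap (ρ⁻¹ i) (ρ⁻¹ j) := by
    rw [Equiv.swap_apply_apply, inv_inv]
    refine Equiv.ext fun k => ?_
    have h3 := hdb k
    rw [hac hbs] at h3
    have h4 := hF.inj h3
    rw [Equiv.Perm.mul_apply, Equiv.Perm.mul_apply, h4]
    exact (ρ.symm_apply_apply _).symm
  obtain ⟨δ, hδ, e0, e1⟩ := dec_block _ _ (fun e => hij (ρ⁻¹.injective e)) (hde ▸ hd)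
  obtain ⟨π, hπ⟩ : ∃ π, π = ρ * δ := ⟨_, rfl⟩
  have hπk : ∀ k, π k = ρ (δ k) := fun k => by rw [hπ]; rfl
  have hact : ∀ x ∈ (S : Subgroup G), ∃ d ∈ D8, ∀ i, x * p (π i) * x⁻¹ = p (π (d i)) := by
    intro x hx
    obtain ⟨d, hd, h3⟩ := h1 x hx
    refine ⟨δ⁻¹ * d * δ, mul_mem (mul_mem (inv_mem hδ) hd) hδ, fun i => ?_⟩
    rw [hπk, h3, hπk, Equiv.Perm.mul_apply, Equiv.Perm.mul_apply]
    rw [show δ (δ⁻¹ (d (δ i))) = d (δ i) from δ.apply_symm_apply _]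
  have hact8 : ∀ d ∈ D8, ∃ x ∈ (S : Subgroup G), ∀ i, x * p (π i) * x⁻¹ = p (π (d i)) := by
    intro d hd
    obtain ⟨x, hx, h3⟩ := h2 (δ * d * δ⁻¹) (mul_mem (mul_mem hδ hd) (inv_mem hδ))
    refine ⟨x, hx, fun i => ?_⟩
    rw [hπk, h3, hπk, Equiv.Perm.mul_apply, Equiv.Perm.mul_apply]
    rw [show δ⁻¹ (δ i) = i from δ.symm_apply_apply _]
  have h4 : π 4 = 0 := by
    by_contra hne
    obtain ⟨k, hk⟩ : ∃ k, π k = 0 := ⟨π.symm 0, π.apply_symm_apply 0⟩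
    have hk4 : k ≠ 4 := fun e => hne (by rw [← e, hk])
    obtain ⟨d, hd, h5⟩ := D8_one k hk4
    obtain ⟨x, hx, h6⟩ := hact8 d hd
    obtain ⟨τ, hτ⟩ := hs.even.perm x (hP.le hx)
    have h7 := hs.fix0 x hx τ hτ
    have h8 := hac hτ 0
    rw [show τ 0 = 0 from h7, ← hk, h6] at h8
    exact h5 (π.injective (hF.inj h8))
  refine ⟨π, by rw [hπk, e0]; exact ρ.apply_symm_apply _, by rw [hπk, e1]; exact ρ.apply_symm_apply _, ?_⟩
  have hpp : (fun k => ε (Pi.single (M := fun _ : Fin (2 ^ 2 + 1) => ZMod 2) (π k) 1)) = p ∘ π := by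
    funext k
    exact hpk (π k)
  rw [hpp]
  have hpV : ∀ k, p k ∈ zl (S : Subgroup G) P := fun k => hs.A_le (hA ▸ subset_closure ⟨k, rfl⟩)
  have hS2 := not_dvd_relIndex S hP.le
  refine
    { toFv := hF.relabel π
      par := hP
      act := hact
      act8 := hact8
      v0 := hs.cv_le_zc hG hP
      cen := ?_
      zc4 := ?_
      zlV := ?_
      pV := fun i => hpV _
      pS := fun i => V_le_S hG S hs hP (hpV _)
      same := ?_ }
  · intro v hv g hg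
    exact comm_iff.2 (hs.comm hg hv)
  · intro x hx
    have h5 := hs.zc_mul hG hP (by norm_num) hx
    rw [Function.comp_apply, h4]
    rwa [hpk] at h5
  · intro x hx
    obtain ⟨v, hv, a, ha, rfl⟩ := hs.mul_eq hG hP hx
    refine ⟨v, hv, a, ?_, rfl⟩
    rw [π.surjective.range_comp, ← hA]
    exact ha
  · intro g hg k hk hgk y hy
    obtain ⟨σ, hσ⟩ := hs.even.perm g hg
    obtain ⟨τ, hτ⟩ := hs.even.perm k hk
    have h5 : σ = τ := by
      refine Equiv.ext fun l => ?_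
      obtain ⟨i, hi⟩ : ∃ i, π i = l := ⟨π.symm l, π.apply_symm_apply l⟩
      have h6 := hgk i
      rw [Function.comp_apply, hi, hac hσ, hac hτ] at h6
      exact hF.inj h6
    subst h5
    exact (big hG S hs hP).act_eq hS2 S.isPGroup' hg hk hσ hτ hy

end Cfsg.Agent.Omega.F4Leaf.Cen.Std

end

section


/-!
# LeafF4, `m = 2`, `n` 2-central: `TTSide` from `LabTwoZ`, `NatSide` from `LabZ`
-/

set_option autoImplicit false
set_option linter.unusedSectionVars false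

namespace Cfsg.Agent.Omega.F4Leaf.Cen.Entry

open Subgroup Cfsg Cfsg.Agent.MinSimple.VModule Pointwise
open Cfsg.Agent.MinSimple.Basic (not_dvd_relIndex char2_centralizer)
open Cfsg.Agent.ZN (zc zl o2)
open Cfsg.Agent.ZN.ChoiceBase (cj mem_cj)
open Cfsg.Agent.Omega.MinPar (IsPar IsParS IsLoc)
open Cfsg.Agent.Omega.FrameFF (cv)
open Cfsg.Agent.Omega.S5.Def Cfsg.Agent.Omega.S5.Syl Cfsg.Agent.Omega.S5.Pair Cfsg.Agent.Omega.S5.Main
open Cfsg.Agent.Omega.F4Leaf.Def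
open Cfsg.Agent.Omega.S5.Mod (le_o2_of_comm)
open Cfsg.Agent.Omega.NTwo (Fv D8 D8_fix D8_one exists_D8 nn aa cm cc ci conj_inj comm_iff mem_cent mem_smul
  o2_cent_conj o2_cent_conj')
open Cfsg.Agent.Omega.F4Leaf.Cen.V (El)
open scoped commutatorElement

universe u

variable {G : Type u} [Group G] [Finite G] (hG : IsCharacteristicTwoType G) {S : Sylow 2 G}

/-- the partner does not centralise `A` -/
theorem not_le_cent {P₁ P₂ : Subgroup G} {y : G} {m : ℕ} {A : Subgroup G} {ε : (Fin (2 ^ m + 1) → ZMod 2) → G}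
    (hG : IsCharacteristicTwoType G) (hl : LabZ S P₁ P₂ y m A ε) :
    ¬ cj y (zl (S : Subgroup G) P₂) ≤ centralizer (A : Set G) := by
  intro h0
  apply hl.off₁.ne
  intro w hw
  refine mem_centralizer_iff.2 fun v hv => ?_
  obtain ⟨d, hd, a, ha, rfl⟩ := hl.split.mul_eq hG hl.pair.star₁ hv
  have h1 : w * d = d * w := hl.split.comm (hl.pair.star₁.le (hl.le hw)) hd
  have h2 : a * w = w * a := mem_centralizer_iff.1 (h0 hw) a ha
  rw [mul_assoc, h2, ← mul_assoc, ← h1, mul_assoc]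

/-- elements acting as a transposition in a smaller group -/
theorem acts_part {n : ℕ} {V L : Subgroup G} {ε : (Fin n → ZMod 2) → G} (h : EvenSet n V L ε) {c c0 c1 : G}
    {σ : Equiv.Perm (Fin n)} (hc : Acts ε c σ) (e : c = c0 * c1) (h0 : ∀ v ∈ V, c0 * v = v * c0) : Acts ε c1 σ := by
  have h1 : Acts ε c0 1 := h.acts_one_iff.2 (mem_centralizer_iff.2 fun v hv => (h0 v hv).symm)
  have h2 := h1.inv.mul hc
  have e1 : c0⁻¹ * c = c1 := by rw [e]; group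
  rwa [e1, inv_one, one_mul] at h2

/-- `n = [p i, b]` -/
theorem comm_eq {n : ℕ} {V L : Subgroup G} {ε : (Fin n → ZMod 2) → G} (h : EvenSet n V L ε) {b : G} {i j : Fin n}
    (hb : Acts ε b (Equiv.swap i j)) :
    ⁅ε (Pi.single i 1), b⁆ = ε (Pi.single i 1) * ε (Pi.single j 1) := by
  have h1 := hb.single i
  rw [Equiv.swap_apply_left] at h1
  rw [commutatorElement_def, h.inv]
  have e : ε (Pi.single i 1) * b * ε (Pi.single i 1) * b⁻¹ = ε (Pi.single i 1) * (b * ε (Pi.single i 1) * b⁻¹) := by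
    group
  rw [e, h1]

include hG

/-- `El` from the action of `O₂(C(n))` on the element -/
theorem el_of {P V0 : Subgroup G} {p : Fin 5 → G} (h : SV (S : Subgroup G) P V0 p) {b : G}
    (h0 : b * p 0 * b⁻¹ = p 1) (h1 : b * p 1 * b⁻¹ = p 0)
    (hQ : ∀ q ∈ o2 (centralizer ({nn p} : Set G)), q * b * q⁻¹ = b ∨ q * b * q⁻¹ = nn p * b) : El p b := by
  refine ⟨h0, ?_, fun q hq => ?_⟩
  · rw [nn, cm, h0, h1]
    exact h.comm _ _
  · have hqn : nn p * q = q * nn p := by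
      have := mem_cent.1 (o2_le _ hq)
      rw [comm_iff] at this
      exact this.symm
    rcases hQ q hq with h2 | h2
    · left
      rw [comm_iff] at h2 ⊢
      exact h2.symm
    · right
      have h3 : q * b = nn p * b * q := by rw [← h2]; group
      have h4 : b * q = nn p * (q * b) := by
        rw [h3, ← mul_assoc, ← mul_assoc, h.nsq, one_mul]
      rw [h4]
      group

/-- **Two members of type `S₅`.** -/
theorem tt_side {P₁ P₂ : Subgroup G} {y : G} {A : Subgroup G} {ε : (Fin (2 ^ 2 + 1) → ZMod 2) → G}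
    {A₂ : Subgroup G} {ε₂ : (Fin (2 ^ 2 + 1) → ZMod 2) → G} (hl : LabTwoZ S P₁ P₂ y 2 2 A ε A₂ ε₂)
    (hC : Cen (zl (S : Subgroup G) P₁) (cj y (zl (S : Subgroup G) P₂))) :
    ∃ p e p₂ e₂, TTSide (S : Subgroup G) P₁ P₂ y p e p₂ e₂ := by
  have hn : 3 ≤ 2 ^ 2 + 1 := by norm_num
  have hev := hl.split.even
  have hev₂ := hl.split₂.even
  have hP₁ := hl.pair.star₁
  have hP₂ := hl.pair.star₂
  have hVS := Std.V_le_S hG S hl.split hP₁
  obtain ⟨b, hb, i, j, hij, hbs⟩ := S5.Nat.exists_swap hev hl.side (not_le_cent hG hl.toLabZ)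
  obtain ⟨ε', hε'⟩ : ∃ ε' : (Fin (2 ^ 2 + 1) → ZMod 2) → G, ε' = fun x => y * ε₂ x * y⁻¹ := ⟨_, rfl⟩
  have hev' : EvenSet (2 ^ 2 + 1) (cj y A₂) (cj y P₂) ε' := hε' ▸ hev₂.conj y
  -- `b = b₀ b'`
  obtain ⟨d, hd, a, ha, hda⟩ := hl.split₂.mul_eq hG hP₂ (mem_cj.1 hb)
  obtain ⟨b', hb'⟩ : ∃ b', b' = y * a * y⁻¹ := ⟨_, rfl⟩
  have hb'A : b' ∈ cj y A₂ := by
    rw [mem_cj, hb']
    have e : y⁻¹ * (y * a * y⁻¹) * y = a := by group
    rwa [e]
  have hb'W : b' ∈ cj y (zl (S : Subgroup G) P₂) := by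
    rw [mem_cj] at hb'A ⊢
    exact hl.split₂.A_le hb'A
  have hgeP : ∀ v ∈ zl (S : Subgroup G) P₁, y⁻¹ * v * y ∈ P₂ := fun v hv => hP₂.le (mem_cj.1 (hl.ge hv))
  have hb's : Acts ε b' (Equiv.swap i j) := by
    refine acts_part hev hbs (c0 := y * d * y⁻¹) ?_ fun v hv => ?_
    · rw [hb']
      calc b = y * (y⁻¹ * b * y) * y⁻¹ := by group
        _ = y * d * y⁻¹ * (y * a * y⁻¹) := by rw [hda]; group
    · have h1 : (y⁻¹ * v * y) * d = d * (y⁻¹ * v * y) := hl.split₂.comm (hgeP v (hl.split.A_le hv)) hd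
      calc y * d * y⁻¹ * v = y * (d * (y⁻¹ * v * y)) * y⁻¹ := by group
        _ = y * ((y⁻¹ * v * y) * d) * y⁻¹ := by rw [h1]
        _ = v * (y * d * y⁻¹) := by group
  -- `Side A ε'`
  have hsA : Side A ε' := by
    intro v hv
    obtain ⟨τ, hτ, h2⟩ := hl.side₂ v (hl.split.A_le hv)
    rw [← hε'] at hτ h2
    refine ⟨τ, hτ, fun k hk => ⟨(h2 k hk).1, ?_⟩⟩
    obtain ⟨c, hc, hcs⟩ := (h2 k hk).2
    obtain ⟨c0, hc0, c1, hc1, hcc⟩ := hl.split.mul_eq hG hP₁ hc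
    refine ⟨c1, hc1, acts_part hev' hcs hcc fun w hw => ?_⟩
    have hwP : w ∈ P₁ := by
      refine hP₁.le (hl.le ?_)
      rw [mem_cj] at hw ⊢
      exact hl.split₂.A_le hw
    exact (hl.split.comm hwP hc0).symm
  obtain ⟨k, l, hkl, hnn, c, hcA, hcs, hbc⟩ := match_swap hev hev' hn hn hsA hb'A hij hb's
  have hcV : c ∈ zl (S : Subgroup G) P₁ := hl.split.A_le hcA
  -- positions
  obtain ⟨ρ, hρ0, hρ1, sv⟩ := Std.exists_sv hG S hl.split hP₁ hij (hl.le hb'W) hb's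
  have hc₂S : y⁻¹ * c * y ∈ (S : Subgroup G) := mem_cj.1 (hl.ge hcV)
  have hc₂s : Acts ε₂ (y⁻¹ * c * y) (Equiv.swap k l) := by
    rw [← acts_conj_label_iff y, ← hε']
    have e : y * (y⁻¹ * c * y) * y⁻¹ = c := by group
    rwa [e]
  obtain ⟨ρ₂, hρ₂0, hρ₂1, sv₂⟩ := Std.exists_sv hG S hl.split₂ hP₂ hkl hc₂S hc₂s
  obtain ⟨p, hp⟩ : ∃ p : Fin 5 → G, p = fun k => ε (Pi.single (M := fun _ : Fin (2 ^ 2 + 1) => ZMod 2) (ρ k) 1) :=
    ⟨_, rfl⟩
  obtain ⟨p₂, hp₂⟩ : ∃ p₂ : Fin 5 → G, p₂ = fun k => ε₂ (Pi.single (M := fun _ : Fin (2 ^ 2 + 1) => ZMod 2) (ρ₂ k) 1) :=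
    ⟨_, rfl⟩
  rw [← hp] at sv
  rw [← hp₂] at sv₂
  have hp0 : p 0 = ε (Pi.single i 1) := by rw [hp, ← hρ0]
  have hp1 : p 1 = ε (Pi.single j 1) := by rw [hp, ← hρ1]
  have hq0 : p₂ 0 = ε₂ (Pi.single k 1) := by rw [hp₂, ← hρ₂0]
  have hq1 : p₂ 1 = ε₂ (Pi.single l 1) := by rw [hp₂, ← hρ₂1]
  have hnp : nn p = ε (Pi.single i 1) * ε (Pi.single j 1) := by rw [nn, hp0, hp1]
  have hnn₂ : y * nn p₂ * y⁻¹ = nn p := by
    rw [hnp, ← hev.add, hnn, hev'.add, hε', nn, hq0, hq1]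
    group
  -- 2-central
  obtain ⟨T₀, hT₀⟩ := hC
  have hnc : nn p ∈ (⁅zl (S : Subgroup G) P₁, cj y (zl (S : Subgroup G) P₂)⁆ : Subgroup G) := by
    rw [hnp, ← comm_eq hev hb's]
    exact commutator_mem_commutator (hl.split.A_le (hev.mem _)) hb'W
  have hN : NCen p := by
    refine ⟨T₀, fun x hx => ?_⟩
    rw [mem_cent, comm_iff]
    exact (mem_centralizer_iff.1 (hT₀ hx) _ hnc).symm
  have hN₂ : NCen p₂ := by
    obtain ⟨T, hT⟩ := hN
    refine ⟨y⁻¹ • T, fun x hx => ?_⟩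
    rw [mem_smul, inv_inv] at hx
    have h1 := mem_cent.1 (hT hx)
    rw [mem_cent]
    rw [← hnn₂] at h1
    calc x * nn p₂ * x⁻¹ = y⁻¹ * (y * x * y⁻¹ * (y * nn p₂ * y⁻¹) * (y * x * y⁻¹)⁻¹) * y := by group
      _ = nn p₂ := by rw [h1]; group
  obtain ⟨T₁, t₁⟩ := R.exists_tOne S sv hN
  obtain ⟨T₂, t₂⟩ := R.exists_tOne S sv₂ hN₂
  -- the elements
  have e0 := hb's.single i
  have e1 := hb's.single j
  rw [Equiv.swap_apply_left, ← hp0, ← hp1] at e0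
  rw [Equiv.swap_apply_right, ← hp0, ← hp1] at e1
  have f0 := hc₂s.single k
  have f1 := hc₂s.single l
  rw [Equiv.swap_apply_left, ← hq0, ← hq1] at f0
  rw [Equiv.swap_apply_right, ← hq0, ← hq1] at f1
  have hyc : y * (y⁻¹ * c * y) * y⁻¹ = c := by group
  refine ⟨p, b', p₂, y⁻¹ * c * y, sv, hN, ?_, hb'W, sv₂, hN₂, ?_, by rwa [hyc], hnn₂, by rwa [hyc]⟩
  · refine el_of hG sv e0 e1 fun q hq => ?_
    rcases Q.Q_V hG S sv₂ t₂ (o2_cent_conj' hnn₂ hq) (mem_cj.1 hb'W) with h1 | h1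
    · left
      calc q * b' * q⁻¹ = y * (y⁻¹ * q * y * (y⁻¹ * b' * y) * (y⁻¹ * q * y)⁻¹) * y⁻¹ := by group
        _ = b' := by rw [h1]; group
    · right
      calc q * b' * q⁻¹ = y * (y⁻¹ * q * y * (y⁻¹ * b' * y) * (y⁻¹ * q * y)⁻¹) * y⁻¹ := by group
        _ = (y * nn p₂ * y⁻¹) * b' := by rw [h1]; group
        _ = nn p * b' := by rw [hnn₂]
  · refine el_of hG sv₂ f0 f1 fun q hq => ?_
    rcases Q.Q_V hG S sv t₁ (o2_cent_conj hnn₂ hq) hcV with h1 | h1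
    · left
      calc q * (y⁻¹ * c * y) * q⁻¹ = y⁻¹ * ((y * q * y⁻¹) * c * (y * q * y⁻¹)⁻¹) * y := by group
        _ = y⁻¹ * c * y := by rw [h1]
    · right
      calc q * (y⁻¹ * c * y) * q⁻¹ = y⁻¹ * ((y * q * y⁻¹) * c * (y * q * y⁻¹)⁻¹) * y := by group
        _ = y⁻¹ * (nn p * c) * y := by rw [h1]
        _ = nn p₂ * (y⁻¹ * c * y) := by rw [← hnn₂]; group

/-- `q = 2`, natural: `[V_P, S]` has order 2 -/
theorem nat_two {P : Subgroup G} (hP : IsParS (S : Subgroup G) P) {F : Type} [Field F] [Finite F] [CharP F 2]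
    (M : FFThm.NatK F (S : Subgroup G) P (zl (S : Subgroup G) P) (cv (S : Subgroup G) P) 1) (hF : Nat.card F = 2) :
    ∃ r ∈ zc (S : Subgroup G), ∀ s ∈ (S : Subgroup G), ∀ w ∈ zl (S : Subgroup G) P,
      s * w * s⁻¹ = w ∨ s * w * s⁻¹ = r * w := by
  obtain ⟨K, N, s⟩ := MixOne.exists_spl hG hP M.natOver (HOne.splitPar_of_two hG S hP M.natOver hF)
  have hcard : Nat.card (HOne.Main.vx (S : Subgroup G) P) = 4 := by
    rw [N.card_V, hF]
    norm_num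
  have hle := HOne.cv_le_zc hG S hP M.natOver (HOne.splitPar_of_two hG S hP M.natOver hF)
  have hZ := F4Leaf.NatStep.card_zc hG hP M hF
  -- `r ∈ Ω₁Z(S) ∩ N`
  obtain ⟨r, hrN, hr1, hrz⟩ : ∃ r ∈ HOne.Main.vx (S : Subgroup G) P, r ≠ 1 ∧ r ∈ zc (S : Subgroup G) := by
    by_contra hcon
    push Not at hcon
    have h1 : zc (S : Subgroup G) ≤ cv (S : Subgroup G) P := by
      intro z hz
      obtain ⟨n, hn, d, hd, rfl⟩ := s.dec z (zc_le_zl _ _ hz)
      have h2 : n ∈ zc (S : Subgroup G) := by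
        have := mul_mem hz (inv_mem (hle hd))
        rwa [mul_inv_cancel_right] at this
      have h3 : n = 1 := by
        by_contra hn1
        exact hcon n hn hn1 h2
      rw [h3, one_mul]
      exact hd
    have h2 : Nat.card (zc (S : Subgroup G)) ≤ Nat.card (cv (S : Subgroup G) P) := card_le_of_le h1
    have h3 : 0 < Nat.card (cv (S : Subgroup G) P) := Nat.card_pos
    omega
  have hN4 : ∀ a ∈ HOne.Main.vx (S : Subgroup G) P, ∀ b ∈ HOne.Main.vx (S : Subgroup G) P, a ≠ 1 → b ≠ 1 → a ≠ r →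
      b ≠ r → a = b ∨ a = r * b := by
    intro a ha b hb ha1 hb1 har hbr
    by_contra hcon
    push Not at hcon
    obtain ⟨h1, h2⟩ := hcon
    have hbb : b * b = 1 := by
      have := zl_sq hP.le S.isPGroup' (not_dvd_relIndex S hP.le) (hP.isLoc.char2 S hG) b (s.NV hb)
      rwa [pow_two] at this
    have h3 : Nat.card (Fin 5) ≤ Nat.card (HOne.Main.vx (S : Subgroup G) P) := by
      refine Nat.card_le_card_of_injective
        (![1, ⟨r, hrN⟩, ⟨b, hb⟩, ⟨r * b, mul_mem hrN hb⟩, ⟨a, ha⟩] : Fin 5 → HOne.Main.vx (S : Subgroup G) P) ?_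
      have k1 : r * b ≠ 1 := fun e => hbr (by
        calc b = r⁻¹ * (r * b) := by group
          _ = r⁻¹ := by rw [e, mul_one]
          _ = r := by
            have := (mem_zc.1 hrz).2.2
            rw [pow_two] at this
            exact inv_eq_of_mul_eq_one_left this)
      have k2 : r * b ≠ r := fun e => hb1 (mul_eq_left.1 e)
      have k3 : r * b ≠ b := fun e => hr1 (mul_eq_right.1 e)
      intro u v huv
      fin_cases u <;> fin_cases v <;> first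
        | rfl
        | (exfalso
           simp only [Fin.mk_zero, Fin.mk_one, Fin.reduceFinMk, Fin.isValue, Matrix.cons_val_zero, Matrix.cons_val_one,
             Matrix.cons_val, Subtype.ext_iff, Subgroup.coe_one] at huv
           first
             | exact hr1 huv | exact hr1 huv.symm | exact hb1 huv | exact hb1 huv.symm | exact ha1 huv
             | exact ha1 huv.symm | exact hbr huv | exact hbr huv.symm | exact har huv | exact har huv.symm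
             | exact k1 huv | exact k1 huv.symm | exact k2 huv | exact k2 huv.symm | exact k3 huv
             | exact k3 huv.symm | exact h1 huv | exact h1 huv.symm | exact h2 huv | exact h2 huv.symm)
    rw [Nat.card_fin, hcard] at h3
    omega
  refine ⟨r, hrz, fun x hx w hw => ?_⟩
  have hxr : x * r * x⁻¹ = r := comm_iff.2 ((mem_zc.1 hrz).2.1 x hx)
  obtain ⟨n, hn, d, hd, rfl⟩ := s.dec w hw
  have hxd : x * d * x⁻¹ = d := comm_iff.2 ((mem_zc.1 (hle hd)).2.1 x hx)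
  have hxn : x * n * x⁻¹ ∈ HOne.Main.vx (S : Subgroup G) P :=
    (mem_normalizer_iff.1 (N.le (s.PK (hP.le hx))) n).1 hn
  have key : x * n * x⁻¹ = n ∨ x * n * x⁻¹ = r * n := by
    by_cases hn1 : n = 1
    · left; rw [hn1]; group
    by_cases hnr : n = r
    · left; rw [hnr, hxr]
    refine hN4 _ hxn _ hn (fun e => hn1 ?_) hn1 (fun e => hnr ?_) hnr
    · exact conj_inj (g := x) (by rw [e]; group)
    · exact conj_inj (g := x) (by rw [e, hxr])
  rcases key with h1 | h1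
  · left; rw [cm, hxd, h1]
  · right; rw [cm, hxd, h1, mul_assoc]

/-- **A natural partner.** -/
theorem nat_side {P₁ P₂ : Subgroup G} {y : G} {A : Subgroup G} {ε : (Fin (2 ^ 2 + 1) → ZMod 2) → G}
    (hl : LabZ S P₁ P₂ y 2 A ε) (hN : FrameMulti.IsNat (S : Subgroup G) P₂ 1) :
    ∃ p e, NatSide (S : Subgroup G) P₁ P₂ y p e := by
  obtain ⟨F, i1, i2, i3, ⟨M⟩⟩ := hN
  have hF := F4Leaf.NatStep.card_F hG (by norm_num) hl M
  have hev := hl.split.even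
  have hP₁ := hl.pair.star₁
  have hP₂ := hl.pair.star₂
  obtain ⟨r, hr, hrw⟩ := nat_two hG hP₂ M hF
  obtain ⟨b, hb, i, j, hij, hbs⟩ := S5.Nat.exists_swap hev hl.side (not_le_cent hG hl)
  obtain ⟨ρ, hρ0, hρ1, sv⟩ := Std.exists_sv hG S hl.split hP₁ hij (hl.le hb) hbs
  obtain ⟨p, hp⟩ : ∃ p : Fin 5 → G, p = fun k => ε (Pi.single (M := fun _ : Fin (2 ^ 2 + 1) => ZMod 2) (ρ k) 1) :=
    ⟨_, rfl⟩
  rw [← hp] at sv
  have hp0 : p 0 = ε (Pi.single i 1) := by rw [hp, ← hρ0]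
  have hp1 : p 1 = ε (Pi.single j 1) := by rw [hp, ← hρ1]
  have e0 := hbs.single i
  have e1 := hbs.single j
  rw [Equiv.swap_apply_left, ← hp0, ← hp1] at e0
  rw [Equiv.swap_apply_right, ← hp0, ← hp1] at e1
  -- `S^y` acts on `W`
  have hact : ∀ q ∈ cj y (S : Subgroup G), ∀ w ∈ cj y (zl (S : Subgroup G) P₂),
      q * w * q⁻¹ = w ∨ q * w * q⁻¹ = (y * r * y⁻¹) * w := by
    intro q hq w hw
    rcases hrw _ (mem_cj.1 hq) _ (mem_cj.1 hw) with h1 | h1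
    · left
      calc q * w * q⁻¹ = y * (y⁻¹ * q * y * (y⁻¹ * w * y) * (y⁻¹ * q * y)⁻¹) * y⁻¹ := by group
        _ = w := by rw [h1]; group
    · right
      calc q * w * q⁻¹ = y * (y⁻¹ * q * y * (y⁻¹ * w * y) * (y⁻¹ * q * y)⁻¹) * y⁻¹ := by group
        _ = (y * r * y⁻¹) * w := by rw [h1]; group
  -- `n = r^y`
  have hne : nn p ≠ 1 := sv.n_ne_one
  have hnr : nn p = y * r * y⁻¹ := by
    have h0 : p 0 ∈ zl (S : Subgroup G) P₁ := sv.pV 0
    have h2 : p 0 * b * (p 0)⁻¹ * b⁻¹ = nn p := by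
      rw [sv.pinv, nn]
      calc p 0 * b * p 0 * b⁻¹ = p 0 * (b * p 0 * b⁻¹) := by group
        _ = p 0 * p 1 := by rw [e0]
    rcases hact _ (hl.ge h0) b hb with h1 | h1
    · rw [h1, mul_inv_cancel] at h2
      exact absurd h2.symm hne
    · rw [h1, mul_inv_cancel_right] at h2
      exact h2.symm
  have hSn : ∀ q ∈ cj y (S : Subgroup G), q * nn p * q⁻¹ = nn p := by
    intro q hq
    have h1 : (y⁻¹ * q * y) * r * (y⁻¹ * q * y)⁻¹ = r := comm_iff.2 ((mem_zc.1 hr).2.1 _ (mem_cj.1 hq))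
    rw [hnr]
    calc q * (y * r * y⁻¹) * q⁻¹ = y * ((y⁻¹ * q * y) * r * (y⁻¹ * q * y)⁻¹) * y⁻¹ := by group
      _ = y * r * y⁻¹ := by rw [h1]
  have hNC : NCen p := by
    refine ⟨y • S, fun x hx => ?_⟩
    rw [mem_smul] at hx
    exact mem_cent.2 (hSn x (mem_cj.2 hx))
  have hQS : ∀ q ∈ o2 (centralizer ({nn p} : Set G)), q ∈ cj y (S : Subgroup G) := by
    intro q hq
    have h1 : ((y • S : Sylow 2 G) : Subgroup G) ≤ centralizer ({nn p} : Set G) := by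
      intro x hx
      rw [mem_smul] at hx
      exact mem_cent.2 (hSn x (mem_cj.2 hx))
    have h2 := o2_le_of_sylow (y • S : Sylow 2 G).isPGroup' (not_dvd_relIndex (y • S : Sylow 2 G) h1) hq
    rw [mem_cj]
    exact mem_smul.1 h2
  have hQW : ∀ q ∈ o2 (centralizer ({nn p} : Set G)), ∀ w ∈ cj y (zl (S : Subgroup G) P₂),
      q * w * q⁻¹ = w ∨ q * w * q⁻¹ = nn p * w := by
    intro q hq w hw
    rw [hnr]
    exact hact q (hQS q hq) w hw
  have hnW : nn p ∈ cj y (zl (S : Subgroup G) P₂) := by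
    rw [mem_cj, hnr]
    have e : y⁻¹ * (y * r * y⁻¹) * y = r := by group
    rw [e]
    exact zc_le_zl _ _ hr
  refine ⟨p, b, sv, hNC, el_of hG sv e0 e1 fun q hq => hQW q hq b hb, hb, hnW, ?_, hQW⟩
  intro w hw
  have hwS : w ∈ cj y (S : Subgroup G) := by
    rw [mem_cj] at hw ⊢
    exact ((hP₂.isLoc.zl_le S hG).trans (zc_le _)).trans (hP₂.isLoc.o2_le S) hw
  refine le_o2_of_comm hG (by rw [sq]; exact sv.nsq) hne (comm_iff.1 (hSn w hwS)) fun q hq => ?_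
  rcases hQW q hq w hw with h1 | h1
  · left
    rw [comm_iff] at h1
    calc w * q * w⁻¹ * q⁻¹ = (q * w) * w⁻¹ * q⁻¹ := by rw [h1]
      _ = 1 := by group
  · right
    have h2 : q * w = nn p * w * q := by rw [← h1]; group
    calc w * q * w⁻¹ * q⁻¹ = nn p * nn p * w * q * w⁻¹ * q⁻¹ := by rw [sv.nsq, one_mul]
      _ = nn p * (nn p * w * q) * w⁻¹ * q⁻¹ := by group
      _ = nn p * (q * w) * w⁻¹ * q⁻¹ := by rw [h2]
      _ = nn p := by group

end Cfsg.Agent.Omega.F4Leaf.Cen.Entry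

end

end

-- merged: Cfsg.Agent.Mrg.Omega.F4Leaf.Cen.Three
section

section


/-!
# LeafF4, `m = 2`, `n` 2-central (bb OMEGA #18108): step (3)

`Out S P V₀ p r v e w` as in `Cen.Out`, `τ ∈ S` inducing `(0 2)(1 3)`, `b₀ = p 2 * p 4`, `u = r b₀ r⁻¹`.

* `Out.V_zcv` : `V_P ≤ Ω₁Z(O₂(C(v)))`;
* `Out.three` : with `g = r τ r`, `(g b₀ g⁻¹) b₀ ∈ Ω₁Z(T)`;
* `Out.three'` : `(τ u τ⁻¹) u ∈ Ω₁Z(T)`.
-/

set_option autoImplicit false

namespace Cfsg.Agent.Omega.F4Leaf.Cen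

open Subgroup Cfsg Cfsg.Agent.MinSimple.VModule
open Cfsg.Agent.ZN (zc zl o2)
open Cfsg.Agent.Omega.MinPar (IsPar IsParS IsLoc)
open Cfsg.Agent.Omega.NTwo (Fv D8 nn aa cm cc ci conj_inj comm_iff mem_cent o2_cent_conj o2_cent_conj' mem_zc_of
  norm_zc_cent)

universe u

variable {G : Type u} [Group G]

/-- `b₀ = p 2 * p 4` -/
abbrev bf (p : Fin 5 → G) : G := p 2 * p 4

theorem rs_cases : ∀ d : Equiv.Perm (Fin 5), Mod.Rs d →
    ((d 2 = 2 ∧ d 3 = 3 ∧ d 4 = 4) ∧ ((∀ i, d i = i) ∨ ∀ i, d i = Equiv.swap 0 1 i)) ∨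
      (d 2 = 3 ∧ d 3 = 2 ∧ d 4 = 4) := by decide +kernel

theorem sw01 : (∀ i : Fin 5, Equiv.swap (0 : Fin 5) 1 (Equiv.swap (0 : Fin 5) 1 i) = i) := by decide

namespace Out

section

variable [Finite G] {S : Sylow 2 G} {P V0 : Subgroup G} {p : Fin 5 → G} {r v e w : G} (h : Out S P V0 p r v e w)
include h

theorem sv : SV (S : Subgroup G) P V0 p := h.toSV

theorem v_ne_one : v ≠ 1 := by
  intro e1
  refine h.sv.a_ne_one (conj_inj (g := r) ?_)
  rw [h.r_a, e1]; group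

theorem v_sq : v * v = 1 := h.sv.v0_sq h.v_mem

theorem v_S {x : G} (hx : x ∈ (S : Subgroup G)) : x * v * x⁻¹ = v := h.cen v h.v_mem x (h.sv.le hx)

theorem v_zcT : v ∈ zc (TT (S : Subgroup G) p) := h.sv.zc_le_zcT (h.v0 h.v_mem)

theorem abf : aa p * bf p = p 3 * p 4 := by
  rw [aa, bf, h.comm 2 3, mul_assoc, ← mul_assoc (p 2) (p 2), h.sq, one_mul]

theorem bf_sq : bf p * bf p = 1 := by
  rw [bf, mul_assoc, ← mul_assoc (p 4), h.comm 4 2, mul_assoc (p 2), h.sq, mul_one, h.sq]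

theorem bf_V : bf p ∈ zl (S : Subgroup G) P := mul_mem (h.pV 2) (h.pV 4)

theorem a_bf : aa p * bf p = bf p * aa p := by
  rw [bf, ← mul_assoc, h.sv.pcomm', mul_assoc, h.sv.pcomm', ← mul_assoc]

theorem bf_ne_abf : bf p ≠ aa p * bf p := fun e1 => h.sv.a_ne_one (mul_right_cancel (e1.symm.trans (one_mul _).symm))

theorem V_zcD {x : G} (hx : x ∈ zl (S : Subgroup G) P) : x ∈ zc (o2 P) := h.par.isLoc.zl_le S h.char2 hx

theorem D_V {d x : G} (hd : d ∈ o2 P) (hx : x ∈ zl (S : Subgroup G) P) : d * x * d⁻¹ = x :=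
  comm_iff.2 ((mem_zc.1 (h.V_zcD hx)).2.1 d hd)

/-- `V_P ≤ Ω₁Z(O₂(C(v)))` -/
theorem V_zcv {x : G} (hx : x ∈ zl (S : Subgroup G) P) : x ∈ zc (o2 (centralizer {v})) := by
  have hP : P ≤ centralizer {v} := fun g hg => mem_cent.2 (h.cen v h.v_mem g hg)
  have h1 : o2 (centralizer {v}) ≤ o2 P := MinPar.o2_le_o2 S h.sv.le hP
  have h2 := h.V_zcD hx
  have h3 := (mem_zc.1 h2).2.2
  rw [sq] at h3
  refine mem_zc_of h.char2 h.v_sq h.v_ne_one h3 ?_ fun q hq => h.D_V (h1 hq) hx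
  exact h.cen v h.v_mem x (o2_le _ (zc_le _ h2))

/-- the points are permuted by `T` with `{0,1}`, `{2,3}`, `{4}` preserved -/
theorem rs {t : G} (ht : t ∈ TT (S : Subgroup G) p) : ∃ d, Mod.Rs d ∧ ∀ i, t * p i * t⁻¹ = p (d i) := by
  obtain ⟨h1, h2⟩ := mem_T.1 ht
  obtain ⟨d, hd, h3⟩ := h.act t h1
  refine ⟨d, ⟨?_, NTwo.D8_fix d hd⟩, h3⟩
  rcases NTwo.D8_part d hd with h4 | h4
  · exact h4
  · exfalso
    rw [nn, cm, h3, h3] at h2
    rcases h4 with ⟨e0, e1⟩ | ⟨e0, e1⟩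
    · rw [e0, e1] at h2; exact h.sv.n_ne_a h2.symm
    · rw [e0, e1, h.comm] at h2; exact h.sv.n_ne_a h2.symm

theorem e_T : e ∈ TT (S : Subgroup G) p := h.Q_T h.e_mem

/-- an element of `T` fixing `p 2` is in `D` or `e D` -/
theorem D_or {t : G} (ht : t ∈ TT (S : Subgroup G) p) (h2 : t * p 2 * t⁻¹ = p 2) : t ∈ o2 P ∨ e⁻¹ * t ∈ o2 P := by
  obtain ⟨d, hd, h3⟩ := h.rs ht
  rcases rs_cases d hd with ⟨-, h4 | h4⟩ | ⟨h4, -, -⟩
  · left
    exact (h.sv.mem_D h.char2 S).2 ⟨T_le ht, fun i => by rw [h3, h4]⟩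
  · right
    refine (h.sv.mem_D h.char2 S).2 ⟨mul_mem (inv_mem (T_le h.e_T)) (T_le ht), fun i => ?_⟩
    have h5 := h.e_p (Equiv.swap 0 1 i)
    rw [sw01] at h5
    calc e⁻¹ * t * p i * (e⁻¹ * t)⁻¹ = e⁻¹ * (t * p i * t⁻¹) * e := by group
      _ = p i := by rw [h3, h4, ← h.e_p i, ci]
  · rw [h3, h4] at h2
    exact absurd (h.inj h2) (by decide)

/-- the action of `T` on `b₀` -/
theorem T_bf {t : G} (ht : t ∈ TT (S : Subgroup G) p) :
    (t * p 2 * t⁻¹ = p 2 ∧ t * bf p * t⁻¹ = bf p) ∨ (t * p 2 * t⁻¹ = p 3 ∧ t * bf p * t⁻¹ = aa p * bf p) := by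
  obtain ⟨d, hd, h3⟩ := h.rs ht
  rcases rs_cases d hd with ⟨⟨h4, -, h5⟩, -⟩ | ⟨h4, -, h5⟩
  · left
    rw [bf, cm, h3, h3, h4, h5]
    exact ⟨rfl, rfl⟩
  · right
    rw [h.abf, bf, cm, h3, h3, h4, h5]
    exact ⟨rfl, rfl⟩

theorem T_bf' {t : G} (ht : t ∈ TT (S : Subgroup G) p) : t * bf p * t⁻¹ = bf p ∨ t * bf p * t⁻¹ = aa p * bf p :=
  (h.T_bf ht).imp And.right And.right

/-- an element of `T` inducing `(2 3)` -/
theorem exists_sw23 : ∃ t ∈ TT (S : Subgroup G) p, t * bf p * t⁻¹ = aa p * bf p := by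
  obtain ⟨t, ht, h1⟩ := h.act8 (Equiv.swap 2 3) (by decide +kernel)
  have ht' : t ∈ TT (S : Subgroup G) p := mem_T.2 ⟨ht, by rw [nn, cm, h1, h1]; rfl⟩
  refine ⟨t, ht', ?_⟩
  rw [h.abf, bf, cm, h1, h1]
  rfl

theorem r_conj {t : G} (ht : t ∈ TT (S : Subgroup G) p) : r * t * r⁻¹ ∈ TT (S : Subgroup G) p :=
  (mem_normalizer_iff.1 h.r_T t).1 ht

theorem r_conj' {t : G} (ht : t ∈ TT (S : Subgroup G) p) : r⁻¹ * t * r ∈ TT (S : Subgroup G) p := by
  have := (mem_normalizer_iff.1 (inv_mem h.r_T) t).1 ht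
  rwa [inv_inv] at this

theorem s_conj {x t : G} (hx : x ∈ (S : Subgroup G)) (ht : t ∈ TT (S : Subgroup G) p) :
    x * t * x⁻¹ ∈ TT (S : Subgroup G) p := (mem_normalizer_iff.1 (h.sv.le_norm_T hx) t).1 ht

theorem r_zc {x : G} (hx : x ∈ zc (TT (S : Subgroup G) p)) : r * x * r⁻¹ ∈ zc (TT (S : Subgroup G) p) :=
  (mem_normalizer_iff.1 (normalizer_le_normalizer_zc _ h.r_T) x).1 hx

theorem r_zc' {x : G} (hx : x ∈ zc (TT (S : Subgroup G) p)) : r⁻¹ * x * r ∈ zc (TT (S : Subgroup G) p) := by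
  have := (mem_normalizer_iff.1 (inv_mem (normalizer_le_normalizer_zc _ h.r_T)) x).1 hx
  rwa [inv_inv] at this

theorem n_a_inv : r⁻¹ * aa p * r = v := by
  rw [← h.r_v]; group

theorem r_v_inv : r⁻¹ * v * r = aa p := by
  rw [← h.r_a]; group

theorem r_n_inv : r⁻¹ * nn p * r = nn p := by
  conv_lhs => rw [← h.r_n]
  group

/-- `w ∈ P` -/
theorem w_P : w ∈ P := by
  obtain ⟨g, hg, h1⟩ := h.full (Equiv.swap 0 2 * Equiv.swap 1 4)
  have h2 : g * nn p * g⁻¹ = p 2 * p 4 := by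
    rw [nn, cm, h1, h1]
    rfl
  have h3 := h.sv.le (T_le (h.Q_T (o2_cent_conj' h2 h.w_mem)))
  have h4 : g * (g⁻¹ * w * g) * g⁻¹ = w := by group
  rw [← h4]
  exact mul_mem (mul_mem hg h3) (inv_mem hg)

theorem w_a : w * aa p * w⁻¹ = p 4 * p 3 := by
  rw [aa, cm, h.w_p, h.w_p]
  rfl

theorem w_bf : w * bf p * w⁻¹ = bf p := mem_cent.1 (o2_le _ h.w_mem)

/-- `D` centralises every element `y` of `Ω₁Z(O₂(C(n)))` on which `T` acts with `[y, T] ≤ ⟨a⟩` -/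
theorem D_y {y : G} (hy : y ∈ zc (o2 (centralizer {nn p})))
    (hT : ∀ t ∈ TT (S : Subgroup G) p, t * y * t⁻¹ = y ∨ t * y * t⁻¹ = aa p * y) :
    ∀ d ∈ o2 P, d * y * d⁻¹ = y := by
  intro d hd
  have hDT := h.sv.D_le_T h.char2 S
  have hyD : y ∈ o2 P := h.zcQ_D hy
  refine (hT d (hDT hd)).resolve_right fun e1 => ?_
  have hwP := h.w_P
  -- `y` commutes with `Ω₁Z(Q₂₄)`
  have hyb : y * (p 2 * p 4) * y⁻¹ = p 2 * p 4 := h.D_V hyD h.bf_V
  have h1 : ∀ x ∈ zc (o2 (centralizer {p 2 * p 4})), y * x = x * y := by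
    intro x hx
    have h2 := hT x (hDT (h.zcQ'_D hx))
    rcases h2 with h2 | h2
    · exact (comm_iff.1 h2).symm
    · exfalso
      have h3 : aa p = x * (y * x * y⁻¹)⁻¹ := by
        have : aa p = x * y * x⁻¹ * y⁻¹ := by rw [h2]; group
        rw [this]; group
      have h4 : aa p ∈ zc (o2 (centralizer {p 2 * p 4})) := by
        rw [h3]
        exact mul_mem hx (inv_mem (norm_zc_cent hyb hx))
      have h5 := comm_iff.2 ((mem_zc.1 h4).2.1 w h.w_mem)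
      rw [h.w_a, h.comm 4 3, aa, h.comm 2 3] at h5
      exact absurd (h.inj (mul_left_cancel h5)) (by decide)
  have h2 : y ∈ o2 (centralizer {p 2 * p 4}) := h.fact y hy h1
  -- `w⁻¹ y w = c y`
  obtain ⟨c, hc, hcV, hcc, hcw⟩ : ∃ c : G, w * y * w⁻¹ = c * y ∧ c ∈ zl (S : Subgroup G) P ∧ c * c = 1 ∧
      w * c * w⁻¹ = c := by
    rcases h.w_Q y h2 with h3 | h3
    · exact ⟨1, by rw [h3, one_mul], one_mem _, one_mul 1, by group⟩
    · exact ⟨p 2 * p 4, h3, h.bf_V, h.bf_sq, h.w_bf⟩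
  have hc' : w⁻¹ * y * w = c * y := by
    have h3 : w * (c * y) * w⁻¹ = y := by rw [cm, hcw, hc, ← mul_assoc, hcc, one_mul]
    calc w⁻¹ * y * w = w⁻¹ * (w * (c * y) * w⁻¹) * w := by rw [h3]
      _ = c * y := by group
  have hd' : w * d * w⁻¹ ∈ o2 P := (mem_normalizer_iff.1 (le_normalizer_o2 P hwP) d).1 hd
  have hcomm : c * (p 4 * p 3) = p 4 * p 3 * c := by
    have h5 : p 4 * p 3 ∈ zl (S : Subgroup G) P := mul_mem (h.pV 4) (h.pV 3)
    exact (mem_zc.1 (h.V_zcD h5)).2.1 c (zc_le _ (h.V_zcD hcV))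
  have key : w * d * w⁻¹ * y * (w * d * w⁻¹)⁻¹ = p 4 * p 3 * y := by
    calc w * d * w⁻¹ * y * (w * d * w⁻¹)⁻¹ = w * (d * (w⁻¹ * y * w) * d⁻¹) * w⁻¹ := by group
      _ = w * (c * (aa p * y)) * w⁻¹ := by rw [hc', cm d, h.D_V hd hcV, e1]
      _ = c * (p 4 * p 3 * (c * y)) := by rw [cm, cm, hcw, h.w_a, hc]
      _ = p 4 * p 3 * (c * c) * y := by rw [← mul_assoc, hcomm]; group
      _ = p 4 * p 3 * y := by rw [hcc, mul_one]
  rcases hT _ (hDT hd') with h5 | h5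
  · rw [key] at h5
    exact h.mul_ne_one (show (4 : Fin 5) ≠ 3 by decide) (mul_right_cancel (h5.trans (one_mul y).symm))
  · rw [key] at h5
    have h6 := mul_right_cancel h5
    rw [h.comm 4 3, aa, h.comm 2 3] at h6
    exact absurd (h.inj (mul_left_cancel h6)) (by decide)

section tau

variable {τ : G} (hτS : τ ∈ (S : Subgroup G)) (hτ : ∀ i, τ * p i * τ⁻¹ = p (Mod.χ i))

omit h hτS [Finite G] in
include hτ in
theorem τ_n : τ * nn p * τ⁻¹ = aa p := by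
  rw [nn, cm, hτ, hτ]; rfl

omit h hτS [Finite G] in
include hτ in
theorem τ_a : τ * aa p * τ⁻¹ = nn p := by
  rw [aa, cm, hτ, hτ]; rfl

include hτS hτ

theorem g_a : r * τ * r * aa p * (r * τ * r)⁻¹ = aa p := by
  calc r * τ * r * aa p * (r * τ * r)⁻¹ = r * (τ * (r * aa p * r⁻¹) * τ⁻¹) * r⁻¹ := by group
    _ = aa p := by rw [h.r_a, h.v_S hτS, h.r_v]

theorem g_v : r * τ * r * v * (r * τ * r)⁻¹ = nn p := by
  calc r * τ * r * v * (r * τ * r)⁻¹ = r * (τ * (r * v * r⁻¹) * τ⁻¹) * r⁻¹ := by group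
    _ = nn p := by rw [h.r_v, τ_a hτ, h.r_n]

omit hτ in
theorem g_T {t : G} (ht : t ∈ TT (S : Subgroup G) p) : r * τ * r * t * (r * τ * r)⁻¹ ∈ TT (S : Subgroup G) p := by
  have h1 := h.r_conj (h.s_conj hτS (h.r_conj ht))
  have h2 : r * τ * r * t * (r * τ * r)⁻¹ = r * (τ * (r * t * r⁻¹) * τ⁻¹) * r⁻¹ := by group
  rwa [h2]

omit hτ in
theorem g_T' {t : G} (ht : t ∈ TT (S : Subgroup G) p) : (r * τ * r)⁻¹ * t * (r * τ * r) ∈ TT (S : Subgroup G) p := by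
  have h1 := h.r_conj' (h.s_conj (inv_mem hτS) (h.r_conj' ht))
  have h2 : (r * τ * r)⁻¹ * t * (r * τ * r) = r⁻¹ * (τ⁻¹ * (r⁻¹ * t * r) * τ⁻¹⁻¹) * r := by group
  rwa [h2]

theorem y_zc : r * τ * r * bf p * (r * τ * r)⁻¹ ∈ zc (o2 (centralizer {nn p})) := by
  have h1 := h.V_zcv h.bf_V
  obtain ⟨h2, h3, h4⟩ := mem_zc.1 h1
  have hg := h.g_v hτS hτ
  refine mem_zc.2 ⟨o2_cent_conj hg h2, fun b hb => ?_, ?_⟩
  · have h5 := h3 _ (o2_cent_conj' hg hb)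
    calc b * (r * τ * r * bf p * (r * τ * r)⁻¹)
        = (r * τ * r) * ((r * τ * r)⁻¹ * b * (r * τ * r) * bf p) * (r * τ * r)⁻¹ := by group
      _ = (r * τ * r) * (bf p * ((r * τ * r)⁻¹ * b * (r * τ * r))) * (r * τ * r)⁻¹ := by rw [h5]
      _ = _ := by group
  · rw [sq] at h4 ⊢
    rw [← cm, h4]; group

theorem T_y {t : G} (ht : t ∈ TT (S : Subgroup G) p) :
    t * (r * τ * r * bf p * (r * τ * r)⁻¹) * t⁻¹ = r * τ * r * bf p * (r * τ * r)⁻¹ ∨
      t * (r * τ * r * bf p * (r * τ * r)⁻¹) * t⁻¹ = aa p * (r * τ * r * bf p * (r * τ * r)⁻¹) := by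
  have h1 : t * (r * τ * r * bf p * (r * τ * r)⁻¹) * t⁻¹ =
      (r * τ * r) * (((r * τ * r)⁻¹ * t * (r * τ * r)) * bf p * ((r * τ * r)⁻¹ * t * (r * τ * r))⁻¹) *
        (r * τ * r)⁻¹ := by group
  rw [h1]
  rcases h.T_bf' (h.g_T' hτS ht) with h2 | h2
  · left; rw [h2]
  · right; rw [h2, cm, h.g_a hτS hτ]

/-- (3) -/
theorem three : r * τ * r * bf p * (r * τ * r)⁻¹ * bf p ∈ zc (TT (S : Subgroup G) p) := by
  have hy := h.y_zc hτS hτ
  have hTy : ∀ t ∈ TT (S : Subgroup G) p, _ := fun t ht => h.T_y hτS hτ ht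
  have hD := h.D_y hy hTy
  obtain ⟨t₁, ht₁, h1⟩ := h.exists_sw23
  have ht₀ := h.g_T hτS ht₁
  have h0 : (r * τ * r * t₁ * (r * τ * r)⁻¹) * (r * τ * r * bf p * (r * τ * r)⁻¹) *
      (r * τ * r * t₁ * (r * τ * r)⁻¹)⁻¹ = aa p * (r * τ * r * bf p * (r * τ * r)⁻¹) := by
    have h2 : (r * τ * r * t₁ * (r * τ * r)⁻¹) * (r * τ * r * bf p * (r * τ * r)⁻¹) *
      (r * τ * r * t₁ * (r * τ * r)⁻¹)⁻¹ = (r * τ * r) * (t₁ * bf p * t₁⁻¹) * (r * τ * r)⁻¹ := by group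
    rw [h2, h1, cm, h.g_a hτS hτ]
  revert hy hTy hD ht₀ h0
  generalize r * τ * r * bf p * (r * τ * r)⁻¹ = y
  generalize r * τ * r * t₁ * (r * τ * r)⁻¹ = t₀
  intro hy hTy hD ht₀ h0
  have hDT := h.sv.D_le_T h.char2 S
  have hyD : y ∈ o2 P := h.zcQ_D hy
  have hyy : y * y = 1 := by
    have := (mem_zc.1 hy).2.2
    rwa [sq] at this
  -- elements of `T` fixing `p 2` centralise `y`
  have h2 : ∀ t ∈ TT (S : Subgroup G) p, t * p 2 * t⁻¹ = p 2 → t * y * t⁻¹ = y := by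
    intro t ht h3
    rcases h.D_or ht h3 with h4 | h4
    · exact hD t h4
    · have h5 := hD _ h4
      have h6 : e * y * e⁻¹ = y := comm_iff.2 ((mem_zc.1 hy).2.1 e h.e_mem)
      calc t * y * t⁻¹ = e * (e⁻¹ * t * y * (e⁻¹ * t)⁻¹) * e⁻¹ := by group
        _ = y := by rw [h5, h6]
  have hay : y ≠ aa p * y := fun e1 => h.sv.a_ne_one (mul_right_cancel (e1.symm.trans (one_mul _).symm))
  have h3 : t₀ * p 2 * t₀⁻¹ = p 3 := by
    rcases h.T_bf ht₀ with ⟨h4, -⟩ | ⟨h4, -⟩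
    · exact absurd ((h2 t₀ ht₀ h4).symm.trans h0) hay
    · exact h4
  have hby : bf p * y = y * bf p := by
    have := h.D_V hyD h.bf_V
    rw [comm_iff] at this
    exact this.symm
  refine mem_zc.2 ⟨mul_mem (hDT hyD) (hDT (zc_le _ (h.V_zcD h.bf_V))), fun t ht => comm_iff.1 ?_, ?_⟩
  · rw [cm]
    rcases h.T_bf ht with ⟨h4, h5⟩ | ⟨h4, h5⟩
    · rw [h2 t ht h4, h5]
    · have h6 : t * y * t⁻¹ = aa p * y := by
        have h7 : t * t₀⁻¹ * p 2 * (t * t₀⁻¹)⁻¹ = p 2 := by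
          obtain ⟨d, hd, h8⟩ := h.rs ht₀
          obtain ⟨d', hd', h9⟩ := h.rs ht
          have h10 : t₀ * p 3 * t₀⁻¹ = p 2 := by
            rcases rs_cases d hd with ⟨⟨q1, -, -⟩, -⟩ | ⟨-, q1, -⟩
            · rw [h8, q1] at h3
              exact absurd (h.inj h3) (by decide)
            · rw [h8, q1]
          have h11 : t * p 3 * t⁻¹ = p 2 := by
            rcases rs_cases d' hd' with ⟨⟨q1, -, -⟩, -⟩ | ⟨-, q1, -⟩
            · rw [h9, q1] at h4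
              exact absurd (h.inj h4) (by decide)
            · rw [h9, q1]
          calc t * t₀⁻¹ * p 2 * (t * t₀⁻¹)⁻¹ = t * (t₀⁻¹ * p 2 * t₀) * t⁻¹ := by group
            _ = t * p 3 * t⁻¹ := by rw [← h10]; group
            _ = p 2 := h11
        have h8 := h2 _ (mul_mem ht (inv_mem ht₀)) h7
        have h12 : t * t₀⁻¹ * aa p * (t * t₀⁻¹)⁻¹ = aa p := h.sv.T_a (mul_mem ht (inv_mem ht₀))
        calc t * y * t⁻¹ = t * t₀⁻¹ * (t₀ * y * t₀⁻¹) * (t * t₀⁻¹)⁻¹ := by group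
          _ = aa p * y := by rw [h0, cm, h12, h8]
      rw [h6, h5]
      have h14 : y * aa p = aa p * y := comm_iff.1 (h.D_V hyD h.sv.a_V)
      calc aa p * y * (aa p * bf p) = aa p * (y * aa p) * bf p := by group
        _ = (aa p * aa p) * y * bf p := by rw [h14]; group
        _ = y * bf p := by rw [h.sv.asq, one_mul]
  · rw [sq]
    calc y * bf p * (y * bf p) = y * (bf p * y) * bf p := by group
      _ = (y * y) * (bf p * bf p) := by rw [hby]; group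
      _ = 1 := by rw [hyy, h.bf_sq, one_mul]

end tau

/-! ### `u = r b₀ r⁻¹` -/

theorem u_sq : (r * bf p * r⁻¹) * (r * bf p * r⁻¹) = 1 := by
  rw [← cm, h.bf_sq]; group

theorem bf_T : bf p ∈ TT (S : Subgroup G) p := h.sv.D_le_T h.char2 S (zc_le _ (h.V_zcD h.bf_V))

theorem u_T : r * bf p * r⁻¹ ∈ TT (S : Subgroup G) p := h.r_conj h.bf_T

theorem u_comm {x : G} (hx : x ∈ zc (TT (S : Subgroup G) p)) : x * (r * bf p * r⁻¹) = r * bf p * r⁻¹ * x :=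
  ((mem_zc.1 hx).2.1 _ h.u_T).symm

/-- the action of `T` on `u` -/
theorem T_u {t : G} (ht : t ∈ TT (S : Subgroup G) p) :
    t * (r * bf p * r⁻¹) * t⁻¹ = r * bf p * r⁻¹ ∨ t * (r * bf p * r⁻¹) * t⁻¹ = v * (r * bf p * r⁻¹) := by
  have h1 : t * (r * bf p * r⁻¹) * t⁻¹ = r * ((r⁻¹ * t * r) * bf p * (r⁻¹ * t * r)⁻¹) * r⁻¹ := by group
  rw [h1]
  rcases h.T_bf' (h.r_conj' ht) with h2 | h2
  · left; rw [h2]
  · right; rw [h2, cm, h.r_a]

/-- `r⁻¹ b₀ r ∈ {u, v u}` -/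
theorem rinv_bf : r⁻¹ * bf p * r = r * bf p * r⁻¹ ∨ r⁻¹ * bf p * r = v * (r * bf p * r⁻¹) := by
  have h1 : r⁻¹ * bf p * r = r * ((r * r)⁻¹ * bf p * (r * r)⁻¹⁻¹) * r⁻¹ := by group
  rw [h1]
  rcases h.T_bf' (inv_mem h.r_sq) with h2 | h2
  · left; rw [h2]
  · right; rw [h2, cm, h.r_a]

/-- (3), conjugated by `r⁻¹` : `(τ u τ⁻¹) u ∈ Ω₁Z(T)` -/
theorem three' {τ : G} (hτS : τ ∈ (S : Subgroup G)) (hτ : ∀ i, τ * p i * τ⁻¹ = p (Mod.χ i)) :
    τ * (r * bf p * r⁻¹) * τ⁻¹ * (r * bf p * r⁻¹) ∈ zc (TT (S : Subgroup G) p) := by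
  have h1 := h.r_zc' (h.three hτS hτ)
  have h2 : r⁻¹ * (r * τ * r * bf p * (r * τ * r)⁻¹ * bf p) * r =
      τ * (r * bf p * r⁻¹) * τ⁻¹ * (r⁻¹ * bf p * r) := by group
  rw [h2] at h1
  rcases h.rinv_bf with h3 | h3
  · rwa [h3] at h1
  · have h4 := mul_mem h1 h.v_zcT
    have h5 : τ * (r * bf p * r⁻¹) * τ⁻¹ * (r⁻¹ * bf p * r) * v = τ * (r * bf p * r⁻¹) * τ⁻¹ * (r * bf p * r⁻¹) := by
      rw [h3, h.u_comm h.v_zcT, mul_assoc, mul_assoc _ v v, h.v_sq, mul_one]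
    rwa [h5] at h4

end

end Out

end Cfsg.Agent.Omega.F4Leaf.Cen

end

section


/-!
# LeafF4, `m = 2`, `n` 2-central (bb OMEGA #18108): steps (4), (5), the natural member `R` over `S`

* `Out.exists_ex` : there are `R ∈ P*(S)` with `|V_R| = 2 |Ω₁Z(S)|`, `C_{V_R}(O²(R)) ≠ 1`, and `k` with
  `V_R^k ≤ O₂(C(n)) ≤ S^k`, `c = p 0 * p 4 ∈ V_R^k` and `V_P = C_{V_P}(O₂(C(n))) ⟨c⟩` (`Ex S P p R k`);
* `Ex.nat`, `Ex.nonFree_nat` : a partner `P₂` with `V' = (V_{P₂})^y ≤ O₂(C(n))`, `n ∈ Ω₁Z(S)^y` : `(R, P₂)` is a mutual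
  pair;
* `Ex.tt`, `Ex.nonFree_tt` : two such `P`, `P₂` with the same `n` : `(R, R₂)` is a mutual pair.
-/

set_option autoImplicit false

namespace Cfsg.Agent.Omega.F4Leaf.Cen

open Subgroup Pointwise Cfsg Cfsg.Agent.MinSimple.VModule
open Cfsg.Agent.ZN (zc zl o2)
open Cfsg.Agent.Omega.MinPar (IsPar IsParS IsLoc)
open Cfsg.Agent.Omega.FrameFF (cv)
open Cfsg.Agent.Omega.HOne.Main (NonFree)
open Cfsg.Agent.Omega.NTwo (Fv D8 nn aa cm cc ci conj_inj comm_iff mem_cent o2_cent_conj o2_cent_conj' mem_zc_of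
  norm_zc_cent mem_csmul csmul_mem)
open scoped commutatorElement

universe u

variable {G : Type u} [Group G]

/-- `Z ∪ Z u` -/
def dbl (Z : Subgroup G) (u : G) (hu : u * u = 1) (hc : ∀ z ∈ Z, z * u = u * z) : Subgroup G where
  carrier := {x | x ∈ Z ∨ x * u ∈ Z}
  one_mem' := Or.inl (one_mem _)
  mul_mem' := by
    rintro x y (hx | hx) (hy | hy)
    · exact Or.inl (mul_mem hx hy)
    · right
      rw [mul_assoc]
      exact mul_mem hx hy
    · right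
      have : x * y * u = x * u * y := by rw [mul_assoc, hc y hy, ← mul_assoc]
      rw [this]
      exact mul_mem hx hy
    · left
      have h1 := hc _ hy
      have h2 : x * y = x * u * (y * u) := by
        calc x * y = x * (y * (u * u)) := by rw [hu, mul_one]
          _ = x * (y * u * u) := by group
          _ = x * u * (y * u) := by rw [h1]; group
      rw [h2]
      exact mul_mem hx hy
  inv_mem' := by
    rintro x (hx | hx)
    · exact Or.inl (inv_mem hx)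
    · right
      have h1 := inv_mem hx
      have h2 := hc _ h1
      have h3 : x⁻¹ * u = (x * u)⁻¹ := by
        have h4 : x⁻¹ = u * (x * u)⁻¹ := by group
        rw [h4, ← h2, mul_assoc, hu, mul_one]
      rw [h3]
      exact h1

theorem mem_dbl {Z : Subgroup G} {u : G} {hu : u * u = 1} {hc : ∀ z ∈ Z, z * u = u * z} {x : G} :
    x ∈ dbl Z u hu hc ↔ x ∈ Z ∨ x * u ∈ Z := Iff.rfl

theorem le_dbl {Z : Subgroup G} {u : G} {hu : u * u = 1} {hc : ∀ z ∈ Z, z * u = u * z} : Z ≤ dbl Z u hu hc :=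
  fun _ hx => Or.inl hx

theorem u_mem_dbl {Z : Subgroup G} {u : G} {hu : u * u = 1} {hc : ∀ z ∈ Z, z * u = u * z} : u ∈ dbl Z u hu hc :=
  Or.inr (by rw [hu]; exact one_mem _)

theorem dbl_eq_of_lt {Z K : Subgroup G} {u : G} {hu : u * u = 1} {hc : ∀ z ∈ Z, z * u = u * z} (h1 : Z ≤ K)
    (h2 : K ≤ dbl Z u hu hc) (h3 : K ≠ Z) : K = dbl Z u hu hc := by
  refine le_antisymm h2 ?_
  have h4 : ¬ K ≤ Z := fun h4 => h3 (le_antisymm h4 h1)
  obtain ⟨x, hx, hxZ⟩ := SetLike.not_le_iff_exists.1 h4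
  have h5 : u ∈ K := by
    rcases mem_dbl.1 (h2 hx) with h6 | h6
    · exact absurd h6 hxZ
    · have := mul_mem (inv_mem hx) (h1 h6)
      rwa [inv_mul_cancel_left] at this
  rintro y (hy | hy)
  · exact h1 hy
  · have h6 := mul_mem (h1 hy) h5
    rwa [mul_assoc, hu, mul_one] at h6

theorem card_dbl [Finite G] {Z : Subgroup G} {u : G} {hu : u * u = 1} {hc : ∀ z ∈ Z, z * u = u * z} (h : u ∉ Z) :
    Nat.card (dbl Z u hu hc) = 2 * Nat.card Z := by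
  have e : Nat.card (Z.subgroupOf (dbl Z u hu hc)) = Nat.card Z :=
    Nat.card_congr (subgroupOfEquivOfLe le_dbl).toEquiv
  have h1 := card_mul_index (Z.subgroupOf (dbl Z u hu hc))
  have h3 : (Z.subgroupOf (dbl Z u hu hc)).index = 2 := by
    rw [index_eq_two_iff]
    refine ⟨⟨u, u_mem_dbl⟩, fun b => ?_⟩
    rw [mem_subgroupOf, mem_subgroupOf]
    change Xor ((b : G) * u ∈ Z) ((b : G) ∈ Z)
    rcases mem_dbl.1 b.2 with hb | hb
    · refine Or.inr ⟨hb, fun h4 => h ?_⟩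
      have := mul_mem (inv_mem hb) h4
      rwa [inv_mul_cancel_left] at this
    · refine Or.inl ⟨hb, fun h4 => h ?_⟩
      have := mul_mem (inv_mem h4) hb
      rwa [inv_mul_cancel_left] at this
  rw [e, h3] at h1
  omega

theorem le_normalizer_of {K H : Subgroup G} (h : ∀ x ∈ K, ∀ y ∈ H, x * y * x⁻¹ ∈ H) :
    K ≤ normalizer (H : Set G) := by
  intro x hx
  rw [mem_normalizer_iff]
  refine fun y => ⟨h x hx y, fun hy => ?_⟩
  have := h x⁻¹ (inv_mem hx) _ hy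
  have e : x⁻¹ * (x * y * x⁻¹) * x⁻¹⁻¹ = y := by group
  rwa [e] at this

/-- The natural member `R` found over `S`, in the position of `O₂(C(n))`. -/
structure Ex (S : Sylow 2 G) (P : Subgroup G) (p : Fin 5 → G) (R : Subgroup G) (k : G) : Prop where
  star : IsParS (S : Subgroup G) R
  card : Nat.card (zl (S : Subgroup G) R) = 2 * Nat.card (zc (S : Subgroup G))
  ne : cv (S : Subgroup G) R ≠ ⊥
  VQ : ∀ x ∈ zl (S : Subgroup G) R, k * x * k⁻¹ ∈ o2 (centralizer {nn p})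
  QS : ∀ q ∈ o2 (centralizer {nn p}), k⁻¹ * q * k ∈ (S : Subgroup G)
  c_mem : k⁻¹ * (p 0 * p 4) * k ∈ zl (S : Subgroup G) R
  cen : ∀ x ∈ zl (S : Subgroup G) P, (∀ q ∈ o2 (centralizer {nn p}), q * x = x * q) ∨
    ∀ q ∈ o2 (centralizer {nn p}), q * (x * (p 0 * p 4)) = x * (p 0 * p 4) * q
  V_Q : zl (S : Subgroup G) P ≤ o2 (centralizer {nn p})
  c_V : p 0 * p 4 ∈ zl (S : Subgroup G) P

/-- `⟨S, C_P(n)^r⟩` -/
def Hs (S : Sylow 2 G) (P : Subgroup G) (p : Fin 5 → G) (r : G) : Subgroup G :=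
  (S : Subgroup G) ⊔ MulAut.conj r • (P ⊓ centralizer {nn p})

theorem qs_cases : ∀ σ : Equiv.Perm (Fin 5), Mod.Qs σ →
    ((σ 2 = 2 ∧ σ 4 = 4) ∨ (σ 2 = 3 ∧ σ 4 = 4) ∨ (σ 2 = 2 ∧ σ 4 = 3) ∨ (σ 2 = 4 ∧ σ 4 = 3) ∨
      (σ 2 = 3 ∧ σ 4 = 2) ∨ (σ 2 = 4 ∧ σ 4 = 2)) := by decide +kernel

namespace Out

variable [Finite G] {S : Sylow 2 G} {P V0 : Subgroup G} {p : Fin 5 → G} {r v e w : G} (h : Out S P V0 p r v e w)
include h

/-! ### (4) -/

theorem u_ne : r * bf p * r⁻¹ ∉ zc (TT (S : Subgroup G) p) := by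
  intro h1
  obtain ⟨t, ht, h2⟩ := h.exists_sw23
  have h3 := h.r_zc' h1
  have h4 : r⁻¹ * (r * bf p * r⁻¹) * r = bf p := by group
  rw [h4] at h3
  exact h.bf_ne_abf ((comm_iff.2 ((mem_zc.1 h3).2.1 t ht)).symm.trans h2)

theorem u_notin : r * bf p * r⁻¹ ∉ zc (S : Subgroup G) := fun h1 => h.u_ne (h.sv.zc_le_zcT h1)

/-- `(τ u τ⁻¹) u ∈ Ω₁Z(S)` -/
theorem b_mem {τ : G} (hτS : τ ∈ (S : Subgroup G)) (hτ : ∀ i, τ * p i * τ⁻¹ = p (Mod.χ i)) :
    τ * (r * bf p * r⁻¹) * τ⁻¹ * (r * bf p * r⁻¹) ∈ zc (S : Subgroup G) := by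
  have h1 := h.three' hτS hτ
  have hu := h.u_sq
  have hT := fun {t : G} (ht : t ∈ TT (S : Subgroup G) p) => h.T_u ht
  have hττ : τ * τ ∈ TT (S : Subgroup G) p := by
    refine mem_T.2 ⟨mul_mem hτS hτS, ?_⟩
    rw [← cc, τ_n hτ, τ_a hτ]
  rcases h.sv.mem_zcT h.char2 S h1 with h2 | h2
  · exact h2
  exfalso
  revert h1 h2 hu hT
  generalize r * bf p * r⁻¹ = u
  intro h1 hu hT h2
  obtain ⟨z, hz⟩ : ∃ z, z = nn p * (τ * u * τ⁻¹ * u) := ⟨_, rfl⟩
  rw [← hz] at h2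
  have h3 : τ * u * τ⁻¹ = nn p * z * u := by
    have h4 : nn p * (nn p * (τ * u * τ⁻¹ * u)) * u = (nn p * nn p) * (τ * u * τ⁻¹) * (u * u) := by group
    rw [hz, h4, h.sv.nsq, hu, one_mul, mul_one]
  obtain ⟨z1, z2, z3⟩ := mem_zc.1 h2
  rw [sq] at z3
  have h5 : τ * z * τ⁻¹ = z := comm_iff.2 (z2 τ hτS)
  have h6 : τ * τ * u * (τ * τ)⁻¹ = p 4 * u := by
    rw [← cc, h3, cm, cm, τ_n hτ, h5, h3]
    calc aa p * z * (nn p * z * u) = aa p * (z * nn p) * z * u := by group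
      _ = aa p * nn p * (z * z) * u := by rw [← z2 _ h.sv.n_mem]; group
      _ = p 4 * u := by rw [z3, h.sv.an, mul_one]
  rcases hT hττ with h7 | h7
  · rw [h6] at h7
    exact h.ne 4 (mul_right_cancel (h7.trans (one_mul u).symm))
  · rw [h6] at h7
    have h8 := mul_right_cancel h7
    exact h.sv.p_notin 4 (h8 ▸ h.v_mem)

/-- `x u x⁻¹ ∈ Ω₁Z(S) u` for `x ∈ S` -/
theorem S_u {x : G} (hx : x ∈ (S : Subgroup G)) : x * (r * bf p * r⁻¹) * x⁻¹ * (r * bf p * r⁻¹) ∈ zc (S : Subgroup G) := by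
  obtain ⟨τ, hτS, hτ⟩ := h.sv.tau
  have hb := h.b_mem hτS hτ
  have hu := h.u_sq
  have hT := fun {t : G} (ht : t ∈ TT (S : Subgroup G) p) => h.T_u ht
  have hvS := fun {x : G} (hx : x ∈ (S : Subgroup G)) => h.v_S hx
  revert hb hu hT
  generalize r * bf p * r⁻¹ = u
  intro hb hu hT
  have hT' : ∀ t ∈ TT (S : Subgroup G) p, t * u * t⁻¹ * u ∈ zc (S : Subgroup G) := by
    intro t ht
    rcases hT ht with h1 | h1
    · rw [h1, hu]; exact one_mem _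
    · rw [h1, mul_assoc, hu, mul_one]; exact h.v0 h.v_mem
  by_cases hxT : x ∈ TT (S : Subgroup G) p
  · exact hT' x hxT
  · have hτT : τ ∉ TT (S : Subgroup G) p := h.sv.tau_notin (τ_n hτ)
    have ht := h.sv.two_T hτS hx hτT hxT
    have h2 := hT' _ ht
    obtain ⟨t, ht1⟩ : ∃ t, t = τ⁻¹ * x := ⟨_, rfl⟩
    have hxt : x = τ * t := by rw [ht1]; group
    rw [← ht1] at h2
    have h3 : x * u * x⁻¹ * u = (τ * (t * u * t⁻¹ * u) * τ⁻¹) * (τ * u * τ⁻¹ * u) := by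
      have h4 : (τ * (t * u * t⁻¹ * u) * τ⁻¹) * (τ * u * τ⁻¹ * u) = τ * (t * u * t⁻¹ * (u * u)) * τ⁻¹ * u := by group
      rw [h4, hu, mul_one, hxt]
      group
    rw [h3, comm_iff.2 ((mem_zc.1 h2).2.1 τ hτS)]
    exact mul_mem h2 hb

/-- `V_s` -/
def Vs : Subgroup G :=
  dbl (zc (S : Subgroup G)) (r * bf p * r⁻¹) h.u_sq fun _ hz => h.u_comm (h.sv.zc_le_zcT hz)

theorem mem_Vs {x : G} : x ∈ h.Vs ↔ x ∈ zc (S : Subgroup G) ∨ x * (r * bf p * r⁻¹) ∈ zc (S : Subgroup G) := Iff.rfl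

theorem Vs_S : (S : Subgroup G) ≤ normalizer (h.Vs : Set G) := by
  refine le_normalizer_of fun x hx y hy => ?_
  rcases h.mem_Vs.1 hy with hy | hy
  · rw [comm_iff.2 ((mem_zc.1 hy).2.1 x hx)]
    exact h.mem_Vs.2 (Or.inl hy)
  · refine h.mem_Vs.2 (Or.inr ?_)
    have hu := h.u_sq
    have h1 := h.S_u hx
    revert hy hu h1
    generalize r * bf p * r⁻¹ = u
    intro hy hu h1
    have h2 : x * y * x⁻¹ * u = (x * (y * u) * x⁻¹) * (x * u * x⁻¹ * u) := by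
      have h3 : (x * (y * u) * x⁻¹) * (x * u * x⁻¹ * u) = x * (y * (u * u)) * x⁻¹ * u := by group
      rw [h3, hu, mul_one]
    rw [h2, comm_iff.2 ((mem_zc.1 hy).2.1 x hx)]
    exact mul_mem hy h1

/-- elements of `C_P(n)` preserve `{p 0, p 1}` -/
theorem qs {l : G} (hl : l ∈ P) (hn : l * nn p * l⁻¹ = nn p) :
    ∃ σ, Mod.Qs σ ∧ ∀ i, l * p i * l⁻¹ = p (σ i) := by
  obtain ⟨σ, hσ⟩ := h.perm l hl
  refine ⟨σ, ?_, hσ⟩
  rw [nn, cm, hσ, hσ] at hn
  exact h.pair_inj (fun e1 => absurd (σ.injective e1) (by decide)) (by decide) hn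

theorem pbf : p 4 * bf p = p 2 := by
  rw [bf, h.comm 2 4, ← mul_assoc, h.sq, one_mul]

theorem pabf : p 4 * (aa p * bf p) = p 3 := by
  rw [h.abf, h.comm 3 4, ← mul_assoc, h.sq, one_mul]

/-- the action of `C_P(n)` on `b₀` and `p 4` -/
theorem L_act {l : G} (hl : l ∈ P) (hn : l * nn p * l⁻¹ = nn p) :
    (l * bf p * l⁻¹ = bf p ∨ l * bf p * l⁻¹ = aa p ∨ l * bf p * l⁻¹ = aa p * bf p) ∧
      (l * p 4 * l⁻¹ = p 4 ∨ l * p 4 * l⁻¹ = p 4 * bf p ∨ l * p 4 * l⁻¹ = p 4 * (aa p * bf p)) := by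
  obtain ⟨σ, hσ, h1⟩ := h.qs hl hn
  rw [h.pbf, h.pabf, h.abf, bf, cm, h1, h1]
  rcases qs_cases σ hσ with ⟨e1, e2⟩ | ⟨e1, e2⟩ | ⟨e1, e2⟩ | ⟨e1, e2⟩ | ⟨e1, e2⟩ | ⟨e1, e2⟩ <;> rw [e1, e2]
  · exact ⟨Or.inl rfl, Or.inl rfl⟩
  · exact ⟨Or.inr (Or.inr rfl), Or.inl rfl⟩
  · exact ⟨Or.inr (Or.inl rfl), Or.inr (Or.inr rfl)⟩
  · exact ⟨Or.inr (Or.inr (h.comm 4 3)), Or.inr (Or.inr rfl)⟩
  · exact ⟨Or.inr (Or.inl (h.comm 3 2)), Or.inr (Or.inl rfl)⟩
  · exact ⟨Or.inl (h.comm 4 2), Or.inr (Or.inl rfl)⟩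

theorem v_Vs : v ∈ h.Vs := h.mem_Vs.2 (Or.inl (h.v0 h.v_mem))

theorem u_Vs : r * bf p * r⁻¹ ∈ h.Vs := h.mem_Vs.2 (Or.inr (by rw [h.u_sq]; exact one_mem _))

theorem zc_Vs {z : G} (hz : z ∈ zc (S : Subgroup G)) : z ∈ h.Vs := h.mem_Vs.2 (Or.inl hz)

/-- `V_s` is normalised by `r l r⁻¹`, `l ∈ C_P(n)` -/
theorem Vs_L {l : G} (hl : l ∈ P) (hn : l * nn p * l⁻¹ = nn p) {y : G} (hy : y ∈ h.Vs) :
    r * l * r⁻¹ * y * (r * l * r⁻¹)⁻¹ ∈ h.Vs := by
  obtain ⟨a1, a2⟩ := h.L_act hl hn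
  -- the action on `u`
  have hu : r * l * r⁻¹ * (r * bf p * r⁻¹) * (r * l * r⁻¹)⁻¹ ∈ h.Vs := by
    have h1 : r * l * r⁻¹ * (r * bf p * r⁻¹) * (r * l * r⁻¹)⁻¹ = r * (l * bf p * l⁻¹) * r⁻¹ := by group
    rw [h1]
    rcases a1 with e1 | e1 | e1
    · rw [e1]; exact h.u_Vs
    · rw [e1, h.r_a]; exact h.v_Vs
    · rw [e1, cm, h.r_a]; exact mul_mem h.v_Vs h.u_Vs
  -- the action on `Ω₁Z(S)`
  have hz : ∀ z ∈ zc (S : Subgroup G), r * l * r⁻¹ * z * (r * l * r⁻¹)⁻¹ ∈ h.Vs := by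
    intro z hz
    have h1 : r * l * r⁻¹ * z * (r * l * r⁻¹)⁻¹ = r * (l * (r⁻¹ * z * r) * l⁻¹) * r⁻¹ := by group
    have h2 : ∀ f ∈ zc (TT (S : Subgroup G) p), ∀ c : G, f = r⁻¹ * z * r → l * f * l⁻¹ = f * c → r * c * r⁻¹ ∈ h.Vs →
        r * (l * (r⁻¹ * z * r) * l⁻¹) * r⁻¹ ∈ h.Vs := by
      intro f _ c e1 e2 h3
      rw [← e1, e2, cm]
      refine mul_mem ?_ h3
      have h4 : r * f * r⁻¹ = z := by rw [e1]; group
      rw [h4]
      exact h.zc_Vs hz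
    have h3 : ∀ z' ∈ zc (S : Subgroup G), ∃ c : G, l * z' * l⁻¹ = z' * c ∧ r * c * r⁻¹ ∈ h.Vs := by
      intro z' hz'
      rcases h.zc4 z' hz' with h4 | h4
      · exact ⟨1, by rw [h.cen _ h4 l hl, mul_one], by rw [mul_one, mul_inv_cancel]; exact one_mem _⟩
      · have h5 : z' = z' * p 4 * p 4 := by rw [mul_assoc, h.sq, mul_one]
        have h6 := h.cen _ h4 l hl
        rcases a2 with e1 | e1 | e1
        · refine ⟨1, ?_, by rw [mul_one, mul_inv_cancel]; exact one_mem _⟩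
          conv_lhs => rw [h5]
          rw [cm, h6, e1, ← h5, mul_one]
        · refine ⟨bf p, ?_, h.u_Vs⟩
          conv_lhs => rw [h5]
          rw [cm, h6, e1, ← mul_assoc, ← h5]
        · refine ⟨aa p * bf p, ?_, ?_⟩
          · conv_lhs => rw [h5]
            rw [cm, h6, e1, ← mul_assoc, ← h5]
          · rw [cm, h.r_a]
            exact mul_mem h.v_Vs h.u_Vs
    rw [h1]
    have h4 := h.r_zc' (h.sv.zc_le_zcT hz)
    rcases h.sv.mem_zcT h.char2 S h4 with h5 | h5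
    · obtain ⟨c, h6, h7⟩ := h3 _ h5
      exact h2 _ h4 c rfl h6 h7
    · obtain ⟨c, h6, h7⟩ := h3 _ h5
      refine h2 _ h4 c rfl ?_ h7
      rw [cm l (nn p), hn] at h6
      rw [mul_assoc (nn p)] at h6
      exact mul_left_cancel h6
  rcases h.mem_Vs.1 hy with hy | hy
  · exact hz y hy
  · have h1 : y = y * (r * bf p * r⁻¹) * (r * bf p * r⁻¹) := by rw [mul_assoc y, h.u_sq, mul_one]
    rw [h1, cm]
    exact mul_mem (hz _ hy) hu

theorem Hs_Vs : Hs S P p r ≤ normalizer (h.Vs : Set G) := by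
  refine sup_le h.Vs_S (le_normalizer_of fun x hx y hy => ?_)
  obtain ⟨h1, h2⟩ := mem_inf.1 (mem_csmul.1 hx)
  have h3 : r * (r⁻¹ * x * r) * r⁻¹ = x := by group
  have h4 := h.Vs_L h1 (mem_cent.1 h2) hy
  rwa [h3] at h4

theorem Hs_s : Hs S P p r ≤ centralizer {p 4} := by
  refine sup_le (fun x hx => mem_cent.2 (h.sv.fix hx)) fun x hx => mem_cent.2 ?_
  obtain ⟨h1, h2⟩ := mem_inf.1 (mem_csmul.1 hx)
  have h3 : r * (nn p * v) * r⁻¹ = p 4 := by rw [cm, h.r_n, h.r_v, h.sv.na]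
  have h4 : r⁻¹ * x * r * (nn p * v) * (r⁻¹ * x * r)⁻¹ = nn p * v := by
    rw [cm, mem_cent.1 h2, h.cen v h.v_mem _ h1]
  calc x * p 4 * x⁻¹ = x * (r * (nn p * v) * r⁻¹) * x⁻¹ := by rw [h3]
    _ = r * (r⁻¹ * x * r * (nn p * v) * (r⁻¹ * x * r)⁻¹) * r⁻¹ := by group
    _ = p 4 := by rw [h4, h3]

theorem Hs_not : ¬ Hs S P p r ≤ normalizer (zc (S : Subgroup G) : Set G) := by
  intro h0
  obtain ⟨l, hl, h1⟩ := h.full (Equiv.swap 3 4)
  have h2 : l * nn p * l⁻¹ = nn p := by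
    rw [nn, cm, h1, h1]; rfl
  have h3 : l * aa p * l⁻¹ = bf p := by
    rw [aa, cm, h1, h1]; rfl
  have h4 : r * l * r⁻¹ ∈ Hs S P p r :=
    (le_sup_right : MulAut.conj r • (P ⊓ centralizer {nn p}) ≤ Hs S P p r)
      (csmul_mem (mem_inf.2 ⟨hl, mem_cent.2 h2⟩))
  have h5 := (mem_normalizer_iff.1 (h0 h4) v).1 (h.v0 h.v_mem)
  have h6 : r * l * r⁻¹ * v * (r * l * r⁻¹)⁻¹ = r * bf p * r⁻¹ := by
    calc r * l * r⁻¹ * v * (r * l * r⁻¹)⁻¹ = r * (l * (r⁻¹ * v * r) * l⁻¹) * r⁻¹ := by group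
      _ = r * bf p * r⁻¹ := by rw [h.r_v_inv, h3]
  rw [h6] at h5
  exact h.u_notin h5

/-- (4) : the natural member `R` -/
theorem exists_R : ∃ R : Subgroup G, IsParS (S : Subgroup G) R ∧ zl (S : Subgroup G) R = h.Vs ∧
    cv (S : Subgroup G) R ≠ ⊥ := by
  have hS4 : (S : Subgroup G) ≤ centralizer {p 4} := fun x hx => mem_cent.2 (h.sv.fix hx)
  have h4sq : p 4 ^ 2 = 1 := by rw [sq]; exact h.sq 4
  have hloc : IsLoc (S : Subgroup G) (Hs S P p r) :=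
    (MinPar.isLoc_centralizer S h4sq (h.ne 4) hS4).of_le S le_sup_left h.Hs_s
  obtain ⟨R, hR, hRH, hRn⟩ := hloc.exists_not_le (M := normalizer (zc (S : Subgroup G) : Set G)) S
    (inf_le_right.trans (normalizer_le_normalizer_zc _)) h.Hs_not
  have hRS : IsParS (S : Subgroup G) R := ⟨hR, hRn⟩
  have h1 : zl (S : Subgroup G) R = h.Vs := by
    refine dbl_eq_of_lt (zc_le_zl _ _) (zl_le le_dbl (hRH.trans h.Hs_Vs)) fun h2 => hRn ?_
    rw [← h2]
    exact le_normalizer_zl _ _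
  refine ⟨R, hRS, h1, fun h2 => h.ne 4 ?_⟩
  have h3 : p 4 ∈ cv (S : Subgroup G) R := by
    refine mem_inf.2 ⟨zc_le_zl _ _ h.sv.s_mem, ?_⟩
    have h4 : oddGen R ≤ centralizer {p 4} := (oddGen_le R).trans (hRH.trans h.Hs_s)
    exact mem_centralizer_iff.2 fun x hx => comm_iff.1 (mem_cent.1 (h4 hx))
  rw [h2] at h3
  exact mem_bot.1 h3

/-! ### (5) -/

theorem n_p {i : Fin 5} (hi : i = 2 ∨ i = 3 ∨ i = 4) (j : Fin 5) : nn p * p i ≠ p j := by
  intro h1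
  have h2 : p i * p j = p 0 * p 1 := by
    rw [← h1, h.sv.pcomm, ← mul_assoc, h.sq, one_mul]
  have hij : i ≠ j := by
    rintro rfl
    exact h.sv.n_ne_one (by rw [nn, ← h2, h.sq])
  rcases h.pair_inj hij (show (0 : Fin 5) ≠ 1 by decide) h2 with ⟨e1, -⟩ | ⟨e1, -⟩ <;>
    rcases hi with rfl | rfl | rfl <;> exact absurd e1 (by decide)

/-- an element of `O₂(C(n))` is in `D` or in `e D` -/
theorem Q_D {q : G} (hq : q ∈ o2 (centralizer {nn p})) : q ∈ o2 P ∨ e⁻¹ * q ∈ o2 P := by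
  obtain ⟨d, hd, h1⟩ := h.rs (h.Q_T hq)
  refine h.D_or (h.Q_T hq) ?_
  rcases h.Q_V q hq _ (h.pV 2) with h2 | h2
  · exact h2
  · rw [h1] at h2
    exact absurd h2.symm (h.n_p (Or.inl rfl) _)

theorem c_V : p 0 * p 4 ∈ zl (S : Subgroup G) P := mul_mem (h.pV 0) (h.pV 4)

theorem e_c : e * (p 0 * p 4) * e⁻¹ = nn p * (p 0 * p 4) := by
  rw [cm, h.e_p, h.e_p]
  change p 1 * p 4 = _
  rw [nn, h.comm 0 1, mul_assoc, ← mul_assoc (p 0), h.sq, one_mul]

theorem n_sq_V {x : G} (hx : x ∈ zl (S : Subgroup G) P) : nn p * x = x * nn p :=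
  (mem_zc.1 (h.V_zcD hx)).2.1 _ (zc_le _ (h.V_zcD h.sv.n_V))

theorem cen_Q {x : G} (hx : x ∈ zl (S : Subgroup G) P) :
    (∀ q ∈ o2 (centralizer {nn p}), q * x = x * q) ∨
      ∀ q ∈ o2 (centralizer {nn p}), q * (x * (p 0 * p 4)) = x * (p 0 * p 4) * q := by
  have key : ∀ y ∈ zl (S : Subgroup G) P, e * y * e⁻¹ = y → ∀ q ∈ o2 (centralizer {nn p}), q * y = y * q := by
    intro y hy h1 q hq
    rw [← comm_iff]
    rcases h.Q_D hq with h2 | h2
    · exact h.D_V h2 hy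
    · have h3 := h.D_V h2 hy
      calc q * y * q⁻¹ = e * (e⁻¹ * q * y * (e⁻¹ * q)⁻¹) * e⁻¹ := by group
        _ = y := by rw [h3, h1]
  rcases h.Q_V e h.e_mem x hx with h1 | h1
  · exact Or.inl (key x hx h1)
  · refine Or.inr (key _ (mul_mem hx h.c_V) ?_)
    rw [cm, h1, h.e_c]
    calc nn p * x * (nn p * (p 0 * p 4)) = x * (nn p * nn p) * (p 0 * p 4) := by rw [h.n_sq_V hx]; group
      _ = x * (p 0 * p 4) := by rw [h.sv.nsq, mul_one]

/-- (4), (5) : the configuration `Ex` -/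
theorem exists_ex : ∃ R k, Ex S P p R k := by
  obtain ⟨R, hR, hV, hcv⟩ := h.exists_R
  obtain ⟨τ, hτS, hτ⟩ := h.sv.tau
  have hkv : τ * r * v * (τ * r)⁻¹ = nn p := by
    rw [← cc, h.r_v, τ_a hτ]
  have hSv : (S : Subgroup G) ≤ centralizer {v} := fun x hx => mem_cent.2 (h.v_S hx)
  have hQS : ∀ q ∈ o2 (centralizer {nn p}), (τ * r)⁻¹ * q * (τ * r) ∈ (S : Subgroup G) := by
    intro q hq
    exact o2_le_of_sylow S.isPGroup' (MinSimple.Basic.not_dvd_relIndex S hSv) (o2_cent_conj' hkv hq)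
  -- the image of `u`
  have hu : τ * r * (r * bf p * r⁻¹) * (τ * r)⁻¹ = p 0 * p 4 ∨
      τ * r * (r * bf p * r⁻¹) * (τ * r)⁻¹ = nn p * (p 0 * p 4) := by
    have h1 : τ * r * (r * bf p * r⁻¹) * (τ * r)⁻¹ = τ * ((r * r) * bf p * (r * r)⁻¹) * τ⁻¹ := by group
    have h2 : τ * bf p * τ⁻¹ = p 0 * p 4 := by
      rw [bf, cm, hτ, hτ]; rfl
    rw [h1]
    rcases h.T_bf' h.r_sq with h3 | h3
    · left; rw [h3, h2]
    · right; rw [h3, cm, h2, τ_a hτ]
  have hcQ : p 0 * p 4 ∈ o2 (centralizer {nn p}) := h.V_Q h.c_V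
  have hnQ : nn p ∈ o2 (centralizer {nn p}) := h.V_Q h.sv.n_V
  have huQ : τ * r * (r * bf p * r⁻¹) * (τ * r)⁻¹ ∈ o2 (centralizer {nn p}) := by
    rcases hu with h1 | h1
    · rw [h1]; exact hcQ
    · rw [h1]; exact mul_mem hnQ hcQ
  have hZ : ∀ z ∈ zc (S : Subgroup G), τ * r * z * (τ * r)⁻¹ ∈ o2 (centralizer {nn p}) := by
    intro z hz
    have h1 : ∀ x ∈ (S : Subgroup G), x * z = z * x := (mem_zc.1 hz).2.1
    have h2 := h1 _ (h.sv.v0_S h.v_mem)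
    refine MinSimple.Basic.char2_centralizer h.char2 (by rw [sq]; exact h.sv.nsq) h.sv.n_ne_one (mem_inf.2 ⟨mem_cent.2 ?_, ?_⟩)
    · rw [← hkv]
      calc τ * r * z * (τ * r)⁻¹ * (τ * r * v * (τ * r)⁻¹) * (τ * r * z * (τ * r)⁻¹)⁻¹
          = τ * r * ((z * v) * z⁻¹) * (τ * r)⁻¹ := by group
        _ = τ * r * v * (τ * r)⁻¹ := by rw [← h2]; group
    · refine mem_centralizer_iff.2 fun q hq => ?_
      have h3 := h1 _ (hQS q hq)
      calc q * (τ * r * z * (τ * r)⁻¹) = τ * r * ((τ * r)⁻¹ * q * (τ * r) * z) * (τ * r)⁻¹ := by group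
        _ = τ * r * (z * ((τ * r)⁻¹ * q * (τ * r))) * (τ * r)⁻¹ := by rw [h3]
        _ = τ * r * z * (τ * r)⁻¹ * q := by group
  refine ⟨R, τ * r, hR, ?_, hcv, ?_, hQS, ?_, fun x hx => h.cen_Q hx, h.V_Q, h.c_V⟩
  · rw [hV]
    exact card_dbl h.u_notin
  · rw [hV]
    intro x hx
    rcases h.mem_Vs.1 hx with hx | hx
    · exact hZ x hx
    · have h1 : x = x * (r * bf p * r⁻¹) * (r * bf p * r⁻¹) := by rw [mul_assoc x, h.u_sq, mul_one]
      rw [h1, cm]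
      exact mul_mem (hZ _ hx) huQ
  · rw [hV]
    rcases hu with h1 | h1
    · rw [← h1, ci]
      exact h.u_Vs
    · have h2 : p 0 * p 4 = nn p * (τ * r * (r * bf p * r⁻¹) * (τ * r)⁻¹) := by
        rw [h1, ← mul_assoc, h.sv.nsq, one_mul]
      have h3 : (τ * r)⁻¹ * (p 0 * p 4) * (τ * r) = v * (r * bf p * r⁻¹) := by
        rw [h2, ← hkv]
        group
      rw [h3]
      exact mul_mem h.v_Vs h.u_Vs

end Out

/-! ### Mutual pairs -/

namespace Ex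

variable [Finite G] {S : Sylow 2 G} {P R : Subgroup G} {p : Fin 5 → G} {k : G} (E : Ex S P p R k)
include E

/-- `V_R^k` and a subgroup `W ≤ O₂(C(n))` normalised by `O₂(C(n))` -/
theorem conj_norm {W : Subgroup G} {x : G}
    (hW : MulAut.conj x • W ≤ o2 (centralizer {nn p})) (hn : ∀ q ∈ o2 (centralizer {nn p}), x⁻¹ * q * x ∈ normalizer (W : Set G)) :
    zl (S : Subgroup G) R ≤ normalizer ((MulAut.conj (k⁻¹ * x) • W : Subgroup G) : Set G) ∧
      MulAut.conj (k⁻¹ * x) • W ≤ normalizer (zl (S : Subgroup G) R : Set G) := by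
  have hkR : ∀ q ∈ o2 (centralizer {nn p}), k⁻¹ * q * k ∈ normalizer (zl (S : Subgroup G) R : Set G) := fun q hq =>
    le_normalizer_zl _ _ (E.star.le (E.QS q hq))
  refine ⟨le_normalizer_of fun y hy z hz => ?_, fun z hz => ?_⟩
  · rw [mem_csmul] at hz ⊢
    have h1 := hn _ (E.VQ y hy)
    have h2 := (mem_normalizer_iff.1 h1 _).1 hz
    have h3 : (k⁻¹ * x)⁻¹ * (y * z * y⁻¹) * (k⁻¹ * x) =
        x⁻¹ * (k * y * k⁻¹) * x * ((k⁻¹ * x)⁻¹ * z * (k⁻¹ * x)) * (x⁻¹ * (k * y * k⁻¹) * x)⁻¹ := by group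
    rwa [h3]
  · rw [mem_csmul] at hz
    have h1 : k * z * k⁻¹ ∈ o2 (centralizer {nn p}) := by
      apply hW
      rw [mem_csmul]
      have h2 : x⁻¹ * (k * z * k⁻¹) * x = (k⁻¹ * x)⁻¹ * z * (k⁻¹ * x) := by group
      rwa [h2]
    have h2 := hkR _ h1
    have h3 : k⁻¹ * (k * z * k⁻¹) * k = z := by group
    rwa [h3] at h2

/-- natural partner -/
theorem nat {P₂ : Subgroup G} {y : G} (hP₂ : IsParS (S : Subgroup G) P₂)
    (hV : MulAut.conj y • zl (S : Subgroup G) P₂ ≤ o2 (centralizer {nn p}))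
    (hn : y⁻¹ * nn p * y ∈ zc (S : Subgroup G))
    (hne : ⁅zl (S : Subgroup G) P, MulAut.conj y • zl (S : Subgroup G) P₂⁆ ≠ ⊥) :
    Mutual (S : Subgroup G) R P₂ (k⁻¹ * y) := by
  obtain ⟨-, hn2, -⟩ := mem_zc.1 hn
  have hSn : (S : Subgroup G) ≤ centralizer {y⁻¹ * nn p * y} := fun x hx => mem_cent.2 (comm_iff.2 (hn2 x hx))
  have hyn : y * (y⁻¹ * nn p * y) * y⁻¹ = nn p := by group
  have h1 : ∀ q ∈ o2 (centralizer {nn p}), y⁻¹ * q * y ∈ (S : Subgroup G) := fun q hq =>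
    o2_le_of_sylow S.isPGroup' (MinSimple.Basic.not_dvd_relIndex S hSn) (o2_cent_conj' hyn hq)
  obtain ⟨h2, h3⟩ := E.conj_norm hV fun q hq => le_normalizer_zl _ _ (hP₂.le (h1 q hq))
  refine ⟨E.star, hP₂, h2, h3, fun h4 => hne ?_⟩
  rw [commutator_eq_bot_iff_le_centralizer] at h4 ⊢
  -- `c` commutes with `V'`
  have hc : ∀ z ∈ MulAut.conj y • zl (S : Subgroup G) P₂, z * (p 0 * p 4) = p 0 * p 4 * z := by
    intro z hz
    have h5 : k⁻¹ * z * k ∈ MulAut.conj (k⁻¹ * y) • zl (S : Subgroup G) P₂ := by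
      rw [mem_csmul] at hz ⊢
      have h6 : (k⁻¹ * y)⁻¹ * (k⁻¹ * z * k) * (k⁻¹ * y) = y⁻¹ * z * y := by group
      rwa [h6]
    have h6 := mem_centralizer_iff.1 (h4 E.c_mem) _ h5
    calc z * (p 0 * p 4) = k * (k⁻¹ * z * k * (k⁻¹ * (p 0 * p 4) * k)) * k⁻¹ := by group
      _ = k * (k⁻¹ * (p 0 * p 4) * k * (k⁻¹ * z * k)) * k⁻¹ := by rw [h6]
      _ = p 0 * p 4 * z := by group
  intro x hx
  refine mem_centralizer_iff.2 fun z hz => ?_
  rcases E.cen x hx with h5 | h5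
  · exact h5 z (hV hz)
  · have h6 := h5 z (hV hz)
    have h7 := hc z hz
    have h8 : z * x * (p 0 * p 4) = x * z * (p 0 * p 4) := by
      calc z * x * (p 0 * p 4) = z * (x * (p 0 * p 4)) := by group
        _ = x * (p 0 * p 4 * z) := by rw [h6]; group
        _ = x * z * (p 0 * p 4) := by rw [← h7]; group
    exact mul_right_cancel h8

theorem nonFree_nat {P₂ : Subgroup G} {y : G} (hP₂ : IsParS (S : Subgroup G) P₂)
    (hV : MulAut.conj y • zl (S : Subgroup G) P₂ ≤ o2 (centralizer {nn p}))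
    (hn : y⁻¹ * nn p * y ∈ zc (S : Subgroup G))
    (hne : ⁅zl (S : Subgroup G) P, MulAut.conj y • zl (S : Subgroup G) P₂⁆ ≠ ⊥)
    (hcv : cv (S : Subgroup G) P₂ ≠ ⊥) :
    NonFree (S : Subgroup G) R P₂ (k⁻¹ * y) := ⟨E.nat hP₂ hV hn hne, E.ne, hcv⟩

/-- T-partner -/
theorem tt {P₂ R₂ : Subgroup G} {p₂ : Fin 5 → G} {k₂ y : G} (E₂ : Ex S P₂ p₂ R₂ k₂)
    (hy : y * nn p₂ * y⁻¹ = nn p)
    (hne : ⁅zl (S : Subgroup G) P, MulAut.conj y • zl (S : Subgroup G) P₂⁆ ≠ ⊥) :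
    Mutual (S : Subgroup G) R R₂ (k⁻¹ * y * k₂) := by
  have hQ : ∀ q ∈ o2 (centralizer {nn p₂}), y * q * y⁻¹ ∈ o2 (centralizer {nn p}) := fun q hq => o2_cent_conj hy hq
  have hQ' : ∀ q ∈ o2 (centralizer {nn p}), y⁻¹ * q * y ∈ o2 (centralizer {nn p₂}) := fun q hq => o2_cent_conj' hy hq
  have h0 : MulAut.conj (y * k₂) • zl (S : Subgroup G) R₂ ≤ o2 (centralizer {nn p}) := by
    intro z hz
    rw [mem_csmul] at hz
    have h1 := hQ _ (E₂.VQ _ hz)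
    have h2 : y * (k₂ * ((y * k₂)⁻¹ * z * (y * k₂)) * k₂⁻¹) * y⁻¹ = z := by group
    rwa [h2] at h1
  obtain ⟨h2, h3⟩ := E.conj_norm (x := y * k₂) h0 fun q hq => by
    have h4 := le_normalizer_zl (S : Subgroup G) R₂ (E₂.star.le (E₂.QS _ (hQ' q hq)))
    have h5 : k₂⁻¹ * (y⁻¹ * q * y) * k₂ = (y * k₂)⁻¹ * q * (y * k₂) := by group
    rwa [h5] at h4
  rw [← mul_assoc] at h2 h3
  refine ⟨E.star, E₂.star, h2, h3, fun h4 => hne ?_⟩
  rw [commutator_eq_bot_iff_le_centralizer] at h4 ⊢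
  -- `c` and `c'` commute
  have hcc : y * (p₂ 0 * p₂ 4) * y⁻¹ * (p 0 * p 4) = p 0 * p 4 * (y * (p₂ 0 * p₂ 4) * y⁻¹) := by
    have h5 : k⁻¹ * (y * (p₂ 0 * p₂ 4) * y⁻¹) * k ∈ MulAut.conj (k⁻¹ * y * k₂) • zl (S : Subgroup G) R₂ := by
      rw [mem_csmul]
      have h6 : (k⁻¹ * y * k₂)⁻¹ * (k⁻¹ * (y * (p₂ 0 * p₂ 4) * y⁻¹) * k) * (k⁻¹ * y * k₂) =
        k₂⁻¹ * (p₂ 0 * p₂ 4) * k₂ := by group
      rw [h6]
      exact E₂.c_mem
    have h6 := mem_centralizer_iff.1 (h4 E.c_mem) _ h5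
    generalize p 0 * p 4 = c at h6 ⊢
    generalize y * (p₂ 0 * p₂ 4) * y⁻¹ = c' at h6 ⊢
    calc c' * c = k * (k⁻¹ * c' * k * (k⁻¹ * c * k)) * k⁻¹ := by group
      _ = k * (k⁻¹ * c * k * (k⁻¹ * c' * k)) * k⁻¹ := by rw [h6]
      _ = c * c' := by group
  intro x hx
  refine mem_centralizer_iff.2 fun z hz => ?_
  replace hz : z ∈ MulAut.conj y • zl (S : Subgroup G) P₂ := hz
  rw [mem_csmul] at hz
  obtain ⟨x', hx', hzx⟩ : ∃ x' ∈ zl (S : Subgroup G) P₂, z = y * x' * y⁻¹ := ⟨_, hz, by group⟩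
  have hzQ : z ∈ o2 (centralizer {nn p}) := by rw [hzx]; exact hQ _ (E₂.V_Q hx')
  have hxQ : x ∈ o2 (centralizer {nn p}) := E.V_Q hx
  have hcQ : p 0 * p 4 ∈ o2 (centralizer {nn p}) := E.V_Q E.c_V
  have hcQ' : y * (p₂ 0 * p₂ 4) * y⁻¹ ∈ o2 (centralizer {nn p}) := hQ _ (E₂.V_Q E₂.c_V)
  -- the centraliser statement for `V'`
  have hcen : (∀ q ∈ o2 (centralizer {nn p}), q * z = z * q) ∨
      ∀ q ∈ o2 (centralizer {nn p}), q * (z * (y * (p₂ 0 * p₂ 4) * y⁻¹)) = z * (y * (p₂ 0 * p₂ 4) * y⁻¹) * q := by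
    have key : ∀ x' q : G, (y⁻¹ * q * y) * x' = x' * (y⁻¹ * q * y) → q * (y * x' * y⁻¹) = y * x' * y⁻¹ * q := by
      intro x' q h5
      calc q * (y * x' * y⁻¹) = y * ((y⁻¹ * q * y) * x') * y⁻¹ := by group
        _ = y * (x' * (y⁻¹ * q * y)) * y⁻¹ := by rw [h5]
        _ = y * x' * y⁻¹ * q := by group
    rcases E₂.cen x' hx' with h5 | h5
    · left
      intro q hq
      rw [hzx]
      exact key _ _ (h5 _ (hQ' q hq))
    · right
      intro q hq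
      rw [hzx, ← cm]
      exact key _ _ (h5 _ (hQ' q hq))
  revert hcc hcQ' hcen
  generalize y * (p₂ 0 * p₂ 4) * y⁻¹ = c'
  have hcx := E.cen x hx
  revert hcQ hcx
  generalize p 0 * p 4 = c
  intro hcQ hcx hcc hcQ' hcen
  rcases hcx with h5 | h5
  · exact h5 z hzQ
  rcases hcen with h6 | h6
  · exact (h6 x hxQ).symm
  -- `z` commutes with `c`
  have h7 : c * z = z * c := by
    have h8 := h6 c hcQ
    have h9 : c * z * c' = z * c * c' := by
      calc c * z * c' = c * (z * c') := by group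
        _ = z * (c' * c) := by rw [h8]; group
        _ = z * c * c' := by rw [hcc]; group
    exact mul_right_cancel h9
  have h8 := h5 z hzQ
  have h9 : z * x * c = x * z * c := by
    calc z * x * c = z * (x * c) := by group
      _ = x * (c * z) := by rw [h8]; group
      _ = x * z * c := by rw [h7]; group
  exact mul_right_cancel h9

theorem nonFree_tt {P₂ R₂ : Subgroup G} {p₂ : Fin 5 → G} {k₂ y : G} (E₂ : Ex S P₂ p₂ R₂ k₂)
    (hy : y * nn p₂ * y⁻¹ = nn p)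
    (hne : ⁅zl (S : Subgroup G) P, MulAut.conj y • zl (S : Subgroup G) P₂⁆ ≠ ⊥) :
    NonFree (S : Subgroup G) R R₂ (k⁻¹ * y * k₂) := ⟨E.tt E₂ hy hne, E.ne, E₂.ne⟩

end Ex

end Cfsg.Agent.Omega.F4Leaf.Cen

end

section


/-!
# LeafF4, `m = 2`, `n` 2-central (bb OMEGA #18108): the mutual pairs of natural members from `NatSide`, `TTSide`

* `NatSide.exists_pair` : a natural member `R` over `S` with `|V_R| = 2 |Ω₁Z(S)|`, `C_{V_R}(O²(R)) ≠ 1` and a mutual pair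
  `(R, P₂)`;
* `TTSide.exists_pair` : a mutual pair `(R, R₂)` of two such members.
-/

set_option autoImplicit false

namespace Cfsg.Agent.Omega.F4Leaf.Cen

open Subgroup Pointwise Cfsg Cfsg.Agent.MinSimple.VModule
open Cfsg.Agent.ZN (zc zl o2)
open Cfsg.Agent.ZN.ChoiceBase (cj)
open Cfsg.Agent.Omega.MinPar (IsPar IsParS IsLoc)
open Cfsg.Agent.Omega.FrameFF (cv)
open Cfsg.Agent.Omega.HOne.Main (NonFree)
open Cfsg.Agent.Omega.NTwo (nn aa cm comm_iff mem_cent mem_csmul csmul_mem)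
open scoped commutatorElement

universe u

variable {G : Type u} [Group G] [Finite G]

theorem cj_eq (y : G) (H : Subgroup G) : cj y H = MulAut.conj y • H := by
  ext x
  rw [ZN.ChoiceBase.mem_cj, mem_csmul]

/-- natural partner -/
theorem NatSide.exists_pair (hG : IsCharacteristicTwoType G) (S : Sylow 2 G) {P P₂ : Subgroup G} {y : G} {p : Fin 5 → G}
    {e : G} (hP₂ : IsParS (S : Subgroup G) P₂) (h : NatSide (S : Subgroup G) P P₂ y p e) :
    ∃ (R : Subgroup G) (x : G), Mutual (S : Subgroup G) R P₂ x ∧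
      Nat.card (zl (S : Subgroup G) R) = 2 * Nat.card (zc (S : Subgroup G)) ∧ cv (S : Subgroup G) R ≠ ⊥ := by
  obtain ⟨r, v, w, o⟩ := V.exists_out hG S h.sv h.ncen h.el
  obtain ⟨R, k, E⟩ := o.exists_ex
  have hWQ := h.W_Q
  rw [cj_eq] at hWQ
  have hn : ∀ q ∈ o2 (centralizer {nn p}), y⁻¹ * q * y ∈ normalizer (zl (S : Subgroup G) P₂ : Set G) := by
    have key : ∀ q ∈ o2 (centralizer {nn p}), ∀ w ∈ zl (S : Subgroup G) P₂,
        (y⁻¹ * q * y) * w * (y⁻¹ * q * y)⁻¹ ∈ zl (S : Subgroup G) P₂ := by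
      intro q hq w hw
      have h1 : y * w * y⁻¹ ∈ cj y (zl (S : Subgroup G) P₂) := by
        rw [cj_eq]
        exact csmul_mem hw
      have h2 : q * (y * w * y⁻¹) * q⁻¹ ∈ cj y (zl (S : Subgroup G) P₂) := by
        rcases h.Q_W q hq _ h1 with h3 | h3
        · rw [h3]; exact h1
        · rw [h3]; exact mul_mem h.n_mem h1
      rw [ZN.ChoiceBase.mem_cj] at h2
      have h3 : y⁻¹ * (q * (y * w * y⁻¹) * q⁻¹) * y = (y⁻¹ * q * y) * w * (y⁻¹ * q * y)⁻¹ := by group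
      rwa [h3] at h2
    intro q hq
    rw [mem_normalizer_iff]
    refine fun w => ⟨key q hq w, fun hw => ?_⟩
    have h1 := key q⁻¹ (inv_mem hq) _ hw
    have h2 : y⁻¹ * q⁻¹ * y * (y⁻¹ * q * y * w * (y⁻¹ * q * y)⁻¹) * (y⁻¹ * q⁻¹ * y)⁻¹ = w := by group
    rwa [h2] at h1
  obtain ⟨h2, h3⟩ := E.conj_norm hWQ hn
  refine ⟨R, k⁻¹ * y, ⟨E.star, hP₂, h2, h3, fun h4 => ?_⟩, E.card, E.ne⟩
  rw [commutator_eq_bot_iff_le_centralizer] at h4
  have h5 : k⁻¹ * e * k ∈ MulAut.conj (k⁻¹ * y) • zl (S : Subgroup G) P₂ := by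
    have h6 := h.e_mem
    rw [ZN.ChoiceBase.mem_cj] at h6
    rw [mem_csmul]
    have h7 : (k⁻¹ * y)⁻¹ * (k⁻¹ * e * k) * (k⁻¹ * y) = y⁻¹ * e * y := by group
    rwa [h7]
  have h6 := mem_centralizer_iff.1 (h4 E.c_mem) _ h5
  have h7 : e * (p 0 * p 4) = p 0 * p 4 * e := by
    calc e * (p 0 * p 4) = k * (k⁻¹ * e * k * (k⁻¹ * (p 0 * p 4) * k)) * k⁻¹ := by group
      _ = k * (k⁻¹ * (p 0 * p 4) * k * (k⁻¹ * e * k)) * k⁻¹ := by rw [h6]
      _ = p 0 * p 4 * e := by group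
  rw [← comm_iff, o.e_c] at h7
  exact h.sv.n_ne_one (mul_right_cancel (h7.trans (one_mul _).symm))

/-- both members of type `S₅` -/
theorem TTSide.exists_pair (hG : IsCharacteristicTwoType G) (S : Sylow 2 G) {P P₂ : Subgroup G} {y : G} {p : Fin 5 → G}
    {e : G} {p₂ : Fin 5 → G} {e₂ : G} (h : TTSide (S : Subgroup G) P P₂ y p e p₂ e₂) :
    ∃ (R R₂ : Subgroup G) (x : G), NonFree (S : Subgroup G) R R₂ x ∧
      Nat.card (zl (S : Subgroup G) R) = 2 * Nat.card (zc (S : Subgroup G)) ∧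
      Nat.card (zl (S : Subgroup G) R₂) = 2 * Nat.card (zc (S : Subgroup G)) := by
  obtain ⟨r, v, w, o⟩ := V.exists_out hG S h.sv h.ncen h.el
  obtain ⟨R, k, E⟩ := o.exists_ex
  obtain ⟨r₂, v₂, w₂, o₂⟩ := V.exists_out hG S h.sv₂ h.ncen₂ h.el₂
  obtain ⟨R₂, k₂, E₂⟩ := o₂.exists_ex
  refine ⟨R, R₂, _, E.nonFree_tt E₂ h.nn₂ fun h4 => h.ne ?_, E.card, E₂.card⟩
  rw [commutator_eq_bot_iff_le_centralizer] at h4
  have h5 := h.e_mem
  rw [cj_eq] at h5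
  exact mem_centralizer_iff.1 (h4 h.e₂_mem) _ h5

end Cfsg.Agent.Omega.F4Leaf.Cen

end

end

-- merged: Cfsg.Agent.Mrg.Omega.F4Leaf.Cen.NN
section

/-!
# LeafF4 (#18108), part C: non-free mutual pairs with `|V_P| = 2 |Ω₁(Z(S))|` lead to the position `HTwo.Entry.Pos`

* `exists_natOver` : a member of a mutual pair with `|V_P| = 2 |Z|` has one natural factor with `q = 2`;
* `exists_same` : a non-free mutual pair `P, P` with `q = 2` and `|V_P|` minimal has the normal form `Same`;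
* `mixed_false` : a non-free mutual pair `P₁, P₂` with `q = 2` without a non-free pair `P₁, P₁` or `P₂, P₂` does
  not exist;
* `exists_pos` : the position `Pos`.
-/

set_option autoImplicit false
set_option linter.unusedSectionVars false

namespace Cfsg.Agent.Omega.F4Leaf.Cen.NN

open Subgroup Cfsg Cfsg.Agent.ZN Cfsg.Agent.Omega.MinPar
open Cfsg.Agent.Omega.Frame Cfsg.Agent.Omega.FFThm Cfsg.Agent.Omega.FrameFF
open Cfsg.Agent.Omega.FrameMulti (IsSym IsNat Typed AllTyped NoWr)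
open Cfsg.Agent.Omega.NatPair (NatMod ap ap_zero' ap_one')
open Cfsg.Agent.Omega.HOne.Main (vx SplitPar NonFree Same)
open Cfsg.Agent.Lib.SL2Mat
open Cfsg.Agent.Omega.BTwo (cj)
open scoped Pointwise commutatorElement

universe u

variable {G : Type u} [Group G] [Finite G] {S : Sylow 2 G}

/-! ### Orders -/

/-- `|Z| ≤ q |D|` for a natural module -/
theorem card_zc_le {F : Type} [Field F] [Finite F] {P : Subgroup G}
    (M : NatK F (S : Subgroup G) P (zl (S : Subgroup G) P) (cv (S : Subgroup G) P) 1) :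
    Nat.card (zc (S : Subgroup G)) ≤ Nat.card F * Nat.card (cv (S : Subgroup G) P) := by
  have hZV : zc (S : Subgroup G) ≤ zl (S : Subgroup G) P := MinSimple.VModule.zc_le_zl _ _
  have hz1 : ∀ z ∈ zc (S : Subgroup G), M.e z 0 1 = 0 := by
    intro z hz
    obtain ⟨t, ht, h1, -⟩ := M.unip fun _ => 1
    have h2 := h1 z (hZV hz) 0
    rw [(MinSimple.VModule.mem_zc.1 hz).2.1 t ht, mul_inv_cancel_right] at h2
    have h3 := congrFun h2 0
    rw [ap_zero'] at h3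
    simp at h3
    exact h3
  let φ : zc (S : Subgroup G) →* Multiplicative F :=
    { toFun := fun v => Multiplicative.ofAdd (M.e (v : G) 0 0)
      map_one' := by
        have := S5.Nat.e_one M
        change Multiplicative.ofAdd (M.e 1 0 0) = 1
        rw [this]
        rfl
      map_mul' := fun v w => by
        have := M.mul v (hZV v.2) w (hZV w.2)
        change Multiplicative.ofAdd (M.e ((v : G) * w) 0 0) = _
        rw [this]
        rfl }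
  have h1 := φ.ker.card_mul_index
  rw [Subgroup.index_ker] at h1
  have h2 : Nat.card φ.range ≤ Nat.card F := by
    exact (Finite.card_subtype_le _)
  have h3 : Nat.card φ.ker ≤ Nat.card (cv (S : Subgroup G) P) := by
    refine Nat.card_le_card_of_injective (fun x : φ.ker => (⟨(x : G), ?_⟩ : cv (S : Subgroup G) P)) ?_
    · rw [← M.ker _ (hZV x.1.2)]
      funext i j
      rw [Subsingleton.elim i 0]
      fin_cases j
      · exact x.2
      · exact hz1 _ x.1.2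
    · intro x y hxy
      exact Subtype.ext (Subtype.ext (congrArg (fun t : cv (S : Subgroup G) P => (t : G)) hxy))
  calc Nat.card (zc (S : Subgroup G)) = Nat.card φ.ker * Nat.card φ.range := h1.symm
    _ ≤ Nat.card (cv (S : Subgroup G) P) * Nat.card F := Nat.mul_le_mul h3 h2
    _ = _ := mul_comm _ _

/-- `|V| = 2^(2^m) |D|` for a module of type `S_{2^m+1}` -/
theorem card_sym {T H V D : Subgroup G} {m : ℕ} (h : SymK T H V D 1 m) (hD : D ≤ V) :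
    2 ^ 2 ^ m * Nat.card D ≤ Nat.card V := by
  let φ : V →* Multiplicative (Fin (2 ^ m + 1) → ZMod 2) :=
    { toFun := fun v => Multiplicative.ofAdd (h.e (v : G) 0)
      map_one' := by
        have h1 := h.mul 1 (one_mem _) 1 (one_mem _)
        rw [mul_one] at h1
        have h2 : h.e 1 = 0 := by simpa using h1
        change Multiplicative.ofAdd (h.e 1 0) = 1
        rw [h2]
        rfl
      map_mul' := fun v w => by
        have := h.mul v v.2 w w.2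
        change Multiplicative.ofAdd (h.e ((v : G) * w) 0) = _
        rw [this]
        rfl }
  have h1 := φ.ker.card_mul_index
  rw [Subgroup.index_ker] at h1
  have h2 : 2 ^ 2 ^ m ≤ Nat.card φ.range := by
    have h3 : Nat.card (Fin (2 ^ m) → ZMod 2) = 2 ^ 2 ^ m := by simp
    rw [← h3]
    have key : ∀ y : Fin (2 ^ m) → ZMod 2, ∃ v : V, φ v = Multiplicative.ofAdd (Fin.cons (∑ x, y x) y : Fin (2 ^ m + 1) → ZMod 2) := by
      intro y
      obtain ⟨v, hv, h4⟩ := h.surj (fun _ => (Fin.cons (∑ x, y x) y : Fin (2 ^ m + 1) → ZMod 2)) (by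
        intro i
        rw [Fin.sum_univ_succ]
        simp only [Fin.cons_zero, Fin.cons_succ]
        exact CharTwo.add_self_eq_zero _)
      refine ⟨⟨v, hv⟩, ?_⟩
      change Multiplicative.ofAdd (h.e v 0) = _
      rw [h4]
    choose f hf using key
    refine Nat.card_le_card_of_injective (fun y => (⟨φ (f y), ⟨_, rfl⟩⟩ : φ.range)) ?_
    intro y y' hyy
    have h4 : φ (f y) = φ (f y') := congrArg Subtype.val hyy
    rw [hf, hf] at h4
    have h5 : (Fin.cons (∑ x, y x) y : Fin (2 ^ m + 1) → ZMod 2) = Fin.cons (∑ x, y' x) y' := h4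
    funext i
    have h6 := congrFun h5 i.succ
    simpa using h6
  have h3 : Nat.card D ≤ Nat.card φ.ker := by
    refine Nat.card_le_card_of_injective (fun x : D => (⟨⟨(x : G), hD x.2⟩, ?_⟩ : φ.ker)) ?_
    · change Multiplicative.ofAdd (h.e (x : G) 0) = 1
      rw [(h.ker _ (hD x.2)).2 x.2]
      rfl
    · intro x y hxy
      exact Subtype.ext (congrArg (fun t : φ.ker => ((t : V) : G)) hxy)
  calc 2 ^ 2 ^ m * Nat.card D ≤ Nat.card φ.range * Nat.card φ.ker := Nat.mul_le_mul h2 h3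
    _ = Nat.card V := by rw [mul_comm]; exact h1

/-- **(1)** a member of a mutual pair with `|V_P| = 2 |Z|` has one natural factor and `q = 2` -/
theorem exists_natOver (hG : IsCharacteristicTwoType G) (hT : AllTyped (S : Subgroup G)) (hW : NoWr (S : Subgroup G))
    {P₁ P₂ : Subgroup G} {x : G} (hm : Mutual (S : Subgroup G) P₁ P₂ x)
    (c : Nat.card (zl (S : Subgroup G) P₁) = 2 * Nat.card (zc (S : Subgroup G))) :
    ∃ (F : Type) (_ : Field F) (_ : Finite F) (_ : CharP F 2), Nat.card F = 2 ∧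
      Nonempty (NatOver F P₁ (zl (S : Subgroup G) P₁) (cv (S : Subgroup G) P₁)) := by
  have hpos : 0 < Nat.card (cv (S : Subgroup G) P₁) := Nat.card_pos
  rcases hW.cases hT hm with ⟨F, i1, i2, i3, ⟨M⟩⟩ | ⟨m, hm2, ⟨M⟩⟩
  · refine ⟨F, i1, i2, i3, ?_, ⟨M.natOver⟩⟩
    have h1 := F4Leaf.NatStep.card_eq M inf_le_left
    have h2 := card_zc_le M
    have h3 : 2 ≤ Nat.card F := Finite.one_lt_card
    have h4 : Nat.card F ^ 2 * Nat.card (cv (S : Subgroup G) P₁) ≤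
        2 * (Nat.card F * Nat.card (cv (S : Subgroup G) P₁)) := by
      rw [← h1, c]
      exact Nat.mul_le_mul_left _ h2
    have h5 : Nat.card F * (Nat.card F * Nat.card (cv (S : Subgroup G) P₁)) ≤
        2 * (Nat.card F * Nat.card (cv (S : Subgroup G) P₁)) := by
      calc _ = Nat.card F ^ 2 * Nat.card (cv (S : Subgroup G) P₁) := by ring
        _ ≤ _ := h4
    have h6 := Nat.le_of_mul_le_mul_right h5 (Nat.mul_pos (by omega) hpos)
    omega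
  · exfalso
    obtain ⟨A, ε, h⟩ := F4Leaf.Split.exists_split hG hm.star₁ (by omega) M
    have h1 := h.card_zc hG hm.star₁ (by omega)
    have h2 := card_sym M inf_le_left
    rw [c, h1] at h2
    have h3 : 2 ^ 2 ^ m * Nat.card (cv (S : Subgroup G) P₁) ≤ 4 * Nat.card (cv (S : Subgroup G) P₁) := by
      calc _ ≤ 2 * (2 * Nat.card (cv (S : Subgroup G) P₁)) := h2
        _ = _ := by ring
    have h4 := Nat.le_of_mul_le_mul_right h3 hpos
    have h5 : 4 ≤ 2 ^ m := by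
      calc 4 = 2 ^ 2 := by norm_num
        _ ≤ 2 ^ m := Nat.pow_le_pow_right (by norm_num) hm2
    have h6 : 2 ^ 4 ≤ 2 ^ 2 ^ m := Nat.pow_le_pow_right (by norm_num) h5
    norm_num at h6
    omega

/-- a member of a mutual pair has `|V_P| ≥ 2 |Z|` -/
theorem two_mul_le (hG : IsCharacteristicTwoType G) {P₁ P₂ : Subgroup G} {x : G}
    (hm : Mutual (S : Subgroup G) P₁ P₂ x) :
    2 * Nat.card (zc (S : Subgroup G)) ≤ Nat.card (zl (S : Subgroup G) P₁) := by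
  have hZV : zc (S : Subgroup G) ≤ zl (S : Subgroup G) P₁ := MinSimple.VModule.zc_le_zl _ _
  obtain ⟨c, hc⟩ := card_dvd_of_le hZV
  have hpos : 0 < Nat.card (zl (S : Subgroup G) P₁) := Nat.card_pos
  have h1 : c ≠ 0 := by
    rintro rfl
    omega
  have h2 : c ≠ 1 := by
    rintro rfl
    have h3 : zc (S : Subgroup G) = zl (S : Subgroup G) P₁ :=
      Subgroup.eq_of_le_of_card_ge hZV (by omega)
    obtain ⟨y, hy1, -, v, hv, w, hw, hvw⟩ := MixOne.exists_move S hG hm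
    rw [← h3] at hv
    exact hvw ((MinSimple.VModule.mem_zc.1 hv).2.1 w (hy1 hw)).symm
  rw [hc, mul_comm 2]
  exact Nat.mul_le_mul_left _ (by omega)

/-! ### The normal form -/

/-- **(3)** the normal form of a non-free pair `P, P` with `q = 2`, `|V_P|` minimal -/
theorem exists_same (hc : IsCharacteristicTwoType G) (S : Sylow 2 G) {P : Subgroup G} {g : G} {F : Type} [Field F]
    [Finite F] [CharP F 2] (M : NatOver F P (zl (S : Subgroup G) P) (cv (S : Subgroup G) P))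
    (hF : Nat.card F = 2) (hnf : NonFree (S : Subgroup G) P P g)
    (hmin : ∀ (P' : Subgroup G) (g' : G), NonFree (S : Subgroup G) P' P' g' →
      Nat.card (zl (S : Subgroup G) P) ≤ Nat.card (zl (S : Subgroup G) P')) :
    ∃ (y : G) (N : Subgroup G) (M' : NatMod F N), Same (S : Subgroup G) P y M' := by
  have h : IsParS (S : Subgroup G) P := hnf.mp.star₁
  have hsp : SplitPar (S : Subgroup G) P := HOne.splitPar_of_two hc S h M hF
  obtain ⟨y, hy1, hy2, v, hv, w, hw, hvw⟩ := MixOne.exists_move S hc hnf.mp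
  obtain ⟨K₁, M₁, s₁⟩ := MixOne.exists_spl hc h M hsp
  have s₂ := s₁.conj y
  have hSP : (S : Subgroup G) ≤ P := h.le
  have hSP' : ((y • S : Sylow 2 G) : Subgroup G) ≤ cj y P := by
    rw [Mix.coe_smul_eq]; exact BTwo.cj_mono hSP
  -- `N`, `N^y` do not commute
  obtain ⟨n, hn, d, hd, rfl⟩ := s₁.dec v hv
  obtain ⟨n', hn', d', hd', rfl⟩ := s₂.dec w hw
  have c1 : ∀ z ∈ cj y (zl (S : Subgroup G) P), ∀ d ∈ cv (S : Subgroup G) P, d * z = z * d := fun z hz d hd =>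
    mem_centralizer_iff.1 (s₁.cen (hSP (hy1 hz))) d hd
  have c2 : ∀ z ∈ zl (S : Subgroup G) P, ∀ d ∈ cj y (cv (S : Subgroup G) P), d * z = z * d := fun z hz d hd => by
    refine mem_centralizer_iff.1 (s₂.cen (hSP' ?_)) d hd
    rw [Mix.coe_smul_eq]; exact hy2 hz
  have hnn : n * n' ≠ n' * n := by
    intro h
    apply hvw
    have e1 := c1 _ hw d hd
    have e2 := c2 n (s₁.NV hn) d' hd'
    calc n * d * (n' * d') = n * (d * (n' * d')) := by group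
      _ = n * (n' * d' * d) := by rw [e1]
      _ = n * n' * d' * d := by group
      _ = n' * (n * d') * d := by rw [h]; group
      _ = n' * (d' * n) * d := by rw [e2]
      _ = n' * d' * (n * d) := by group
  have hn'' : n' ∈ cj y (vx (S : Subgroup G) P) := hn'
  rcases (HOne.preMod M hsp).dich S (hSP.trans (HOne.le_normalizer_vx _ _))
    (fun s hs' => HOne.nm_of_mem M hsp (hSP hs')) with hgood | hexc
  · refine ⟨y, vx (S : Subgroup G) P, (HOne.preMod M hsp).toNatMod hgood, ?_⟩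
    have hmut : Mix.RMutual (vx (S : Subgroup G) P) (cj y (vx (S : Subgroup G) P)) K₁ (cj y K₁) :=
      ⟨(s₂.NV.trans hy1).trans (hSP.trans s₁.PK), (s₁.NV.trans hy2).trans (by
        have := hSP'.trans s₂.PK
        rwa [Mix.coe_smul_eq] at this), n, hn, n', hn', hnn⟩
    obtain ⟨-, u, u', hu, -, hl, -⟩ := Mix.pair M₁ (M₁.conj y) hmut
    obtain ⟨T₁, hT₁P, hT₁R⟩ := s₁.exists_sylow S hSP hu.ne
    rw [← hl] at hT₁R
    have hR2 : IsPGroup 2 ↥(vx (S : Subgroup G) P ⊓ cj y (vx (S : Subgroup G) P)) :=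
      s₁.N_pGroup.to_le inf_le_left
    have hR1 : vx (S : Subgroup G) P ⊓ cj y (vx (S : Subgroup G) P) ≠ ⊥ := by
      have h1 := M₁.line_ne_bot hu.ne
      rw [← hl] at h1
      exact h1
    have hVQ := s₁.V_le_Q hT₁P hu.ne (R := vx (S : Subgroup G) P ⊓ cj y (vx (S : Subgroup G) P)) hl hT₁R
      (Mix.char2_normalizer hc hR2 hR1)
    exact
      { mp := ⟨h, h, by
          change _ ≤ normalizer (cj y _ : Set G)
          rw [BTwo.normalizer_cj]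
          exact hy2.trans ((BTwo.cj_mono hSP).trans (BTwo.cj_mono (MinSimple.VModule.le_normalizer_zl _ _))),
          (hy1.trans hSP).trans (MinSimple.VModule.le_normalizer_zl _ _), by
          intro h0
          have h1 := commutator_mem_commutator (s₁.NV hn)
            (show n' ∈ MulAut.conj y • zl (S : Subgroup G) P from s₂.NV hn')
          rw [h0, mem_bot, commutatorElement_eq_one_iff_mul_comm] at h1
          exact hnn h1⟩
        N_eq := rfl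
        inf := hsp
        sup := HOne.sup_eq M
        ne := hnf.ne₁
        cen := HOne.le_centralizer_cv hc S h M hsp
        le := HOne.le_normalizer_vx _ _
        lift := HOne.rmod_lift M hsp
        pair := ⟨((s₂.NV.trans hy1).trans hSP).trans (HOne.le_normalizer_vx _ _), by
          change _ ≤ normalizer (cj y _ : Set G)
          rw [BTwo.normalizer_cj]
          exact ((HOne.vx_le _ _).trans hy2).trans ((BTwo.cj_mono hSP).trans
            (BTwo.cj_mono (HOne.le_normalizer_vx _ _))),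
          n, hn, n', hn', hnn⟩
        VQ := (HOne.vx_le _ _).trans hVQ
        min := hmin }
  · exfalso
    obtain ⟨w₀, r, E⟩ := HOne.excD_of S M hsp hexc
    have := E.card
    omega

/-! ### Mixed pairs -/

/-- the normal form of a non-free mutual pair `P₁, P₂` without non-free pairs `P₁, P₁` and `P₂, P₂` -/
theorem exists_mixedW (hG : IsCharacteristicTwoType G) (S : Sylow 2 G) {P₁ P₂ : Subgroup G} {x : G}
    (hno₁ : ∀ g : G, ¬ NonFree (S : Subgroup G) P₁ P₁ g) (hno₂ : ∀ g : G, ¬ NonFree (S : Subgroup G) P₂ P₂ g)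
    (h : NonFree (S : Subgroup G) P₁ P₂ x) (hs₁ : SplitPar (S : Subgroup G) P₁)
    (hs₂ : SplitPar (S : Subgroup G) P₂) {F₁ F₂ : Type} [Field F₁] [Finite F₁] [CharP F₁ 2] [Field F₂] [Finite F₂]
    [CharP F₂ 2] (o₁ : NatOver F₁ P₁ (zl (S : Subgroup G) P₁) (cv (S : Subgroup G) P₁))
    (o₂ : NatOver F₂ P₂ (zl (S : Subgroup G) P₂) (cv (S : Subgroup G) P₂)) :
    ∃ (K₁ N₂ K₂ : Subgroup G) (M₁ : Mix.RMod F₁ (vx (S : Subgroup G) P₁) K₁) (M₂ : Mix.RMod F₂ N₂ K₂) (k : G)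
      (R : Subgroup G) (T : Sylow 2 G), N₂ = BTwo.cj k (vx (S : Subgroup G) P₂) ∧
      MixOne.Spl P₁ (zl (S : Subgroup G) P₁) (cv (S : Subgroup G) P₁) M₁ ∧
      MixOne.Spl (BTwo.cj k P₂) (BTwo.cj k (zl (S : Subgroup G) P₂)) (BTwo.cj k (cv (S : Subgroup G) P₂)) M₂ ∧
      (T : Subgroup G) ≤ P₁ ∧ (T : Subgroup G) ≤ BTwo.cj k P₂ ∧ (T : Subgroup G) ≤ normalizer (R : Set G) ∧
      MixOne.MixedW M₁ M₂ R := by
  obtain ⟨K₁, M₁, s₁⟩ := MixOne.exists_spl hG h.mp.star₁ o₁ hs₁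
  obtain ⟨K₂, M₂, s₂⟩ := MixOne.exists_spl hG h.mp.star₂ o₂ hs₂
  obtain ⟨y, hy1, hy2, hy3⟩ := MixOne.exists_move S hG h.mp
  have hS₂ : ((y • S : Sylow 2 G) : Subgroup G) ≤ BTwo.cj y P₂ := by
    rw [Mix.coe_smul_eq]; exact BTwo.cj_mono h.mp.star₂.le
  have hn₁ := MixOne.noSame_of h.mp.star₁ h.ne₁ hno₁
  have hn₂ := (MixOne.noSame_of h.mp.star₂ h.ne₂ hno₂).conj y
  obtain ⟨k, -, T, hT1, hT2, hT3, m⟩ := s₁.mixedW (fun K h1 h2 => Mix.char2_normalizer hG h1 h2) (s₂.conj y) S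
    (y • S) h.mp.star₁.le hS₂ hy1 (by rw [Mix.coe_smul_eq]; exact hy2) hy3 hn₁ hn₂
  have e : ∀ X : Subgroup G, BTwo.cj k (BTwo.cj y X) = BTwo.cj (k * y) X := fun X => (BTwo.cj_mul k y X).symm
  have s₃ := (s₂.conj y).conj k
  rw [e P₂] at hT2
  rw [e P₂, e (zl (S : Subgroup G) P₂), e (cv (S : Subgroup G) P₂)] at s₃
  exact ⟨K₁, _, _, M₁, _, k * y, _, T, e _, s₁, s₃, hT1, hT2, hT3, m⟩

/-- **(4)** there is a non-free pair `P₁, P₁` or `P₂, P₂` -/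
theorem mixed_false (hG : Ctx G) (S : Sylow 2 G) {P₁ P₂ : Subgroup G} {x : G}
    (hno₁ : ∀ g : G, ¬ NonFree (S : Subgroup G) P₁ P₁ g) (hno₂ : ∀ g : G, ¬ NonFree (S : Subgroup G) P₂ P₂ g)
    (h : NonFree (S : Subgroup G) P₁ P₂ x) {F₁ F₂ : Type} [Field F₁] [Finite F₁] [CharP F₁ 2] [Field F₂] [Finite F₂]
    [CharP F₂ 2] (o₁ : NatOver F₁ P₁ (zl (S : Subgroup G) P₁) (cv (S : Subgroup G) P₁))
    (o₂ : NatOver F₂ P₂ (zl (S : Subgroup G) P₂) (cv (S : Subgroup G) P₂)) (c₁ : Nat.card F₁ = 2)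
    (c₂ : Nat.card F₂ = 2) : False := by
  obtain ⟨K₁, N₂, K₂, M₁, M₂, k, R, T, -, s₁, s₂, hT1, hT2, hT3, m⟩ :=
    exists_mixedW hG.char2 S hno₁ hno₂ h (HOne.splitPar_of_two hG.char2 S h.mp.star₁ o₁ c₁)
      (HOne.splitPar_of_two hG.char2 S h.mp.star₂ o₂ c₂) o₁ o₂
  obtain ⟨⟨d, hd⟩, hd1⟩ := Subgroup.ne_bot_iff_exists_ne_one.1 h.ne₁
  have hd1' : d ≠ 1 := fun h => hd1 (Subtype.ext h)
  have hp : Fact (Nat.Prime 2) := ⟨Nat.prime_two⟩
  have h32 : 16 < Nat.card T := by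
    have e1 : (2 : ℕ) ^ 5 ∣ Nat.card G := Cfsg.Agent.Omega.Exits.dvd_card hG.rank
    have e2 : (2 : ℕ) ^ 5 ∣ Nat.card T := T.pow_dvd_card_of_pow_dvd_card e1
    have e3 := Nat.le_of_dvd Nat.card_pos e2
    omega
  refine m.two_false c₁ (hT1.trans s₁.PK) (hT2.trans s₂.PK) hT3 (z := d) ?_ ?_ h32
  · intro h5
    apply hd1'
    have h6 : d ∈ vx (S : Subgroup G) P₁ ⊓ cv (S : Subgroup G) P₁ := ⟨m.RV h5, hd⟩
    rw [s₁.inf] at h6
    exact mem_bot.1 h6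
  · intro t ht
    exact (mem_centralizer_iff.1 (s₁.cen (hT1 ht)) d hd).symm

/-! ### The position -/

/-- from a non-free pair `P, P` with `|V_P| = 2 |Z|` and `q = 2` -/
theorem exists_pos_same (hG : IsCharacteristicTwoType G) (S : Sylow 2 G) {P : Subgroup G} {g : G}
    {F : Type} [Field F] [Finite F] [CharP F 2] (o : NatOver F P (zl (S : Subgroup G) P) (cv (S : Subgroup G) P))
    (hF : Nat.card F = 2) (h : NonFree (S : Subgroup G) P P g)
    (c : Nat.card (zl (S : Subgroup G) P) = 2 * Nat.card (zc (S : Subgroup G))) :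
    ∃ (P V : Subgroup G) (ι : Type u) (R : ι → Subgroup G) (o : ι) (r z : G), HTwo.Entry.Pos S P V R o r z := by
  obtain ⟨y, N, M', hs⟩ := exists_same hG S o hF h fun P' g' h' => by
    rw [c]
    exact two_mul_le hG h'.mp
  obtain ⟨o', r, z, hp⟩ := HTwo.Entry.exists_pos hG hs hF
  exact ⟨P, N, _, _, o', r, z, hp⟩

/-- **the position, first form** -/
theorem exists_pos_of (hG : Ctx G) (S : Sylow 2 G) {P₁ P₂ : Subgroup G} {x : G}
    (h : NonFree (S : Subgroup G) P₁ P₂ x) {F₁ F₂ : Type} [Field F₁] [Finite F₁] [CharP F₁ 2] [Field F₂] [Finite F₂]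
    [CharP F₂ 2] (o₁ : NatOver F₁ P₁ (zl (S : Subgroup G) P₁) (cv (S : Subgroup G) P₁))
    (o₂ : NatOver F₂ P₂ (zl (S : Subgroup G) P₂) (cv (S : Subgroup G) P₂)) (hF₁ : Nat.card F₁ = 2)
    (hF₂ : Nat.card F₂ = 2) (c₁ : Nat.card (zl (S : Subgroup G) P₁) = 2 * Nat.card (zc (S : Subgroup G)))
    (c₂ : Nat.card (zl (S : Subgroup G) P₂) = 2 * Nat.card (zc (S : Subgroup G))) :
    ∃ (P V : Subgroup G) (ι : Type u) (R : ι → Subgroup G) (o : ι) (r z : G), HTwo.Entry.Pos S P V R o r z := by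
  by_cases h₁ : ∃ g, NonFree (S : Subgroup G) P₁ P₁ g
  · obtain ⟨g, hg⟩ := h₁
    exact exists_pos_same hG.char2 S o₁ hF₁ hg c₁
  by_cases h₂ : ∃ g, NonFree (S : Subgroup G) P₂ P₂ g
  · obtain ⟨g, hg⟩ := h₂
    exact exists_pos_same hG.char2 S o₂ hF₂ hg c₂
  exact (mixed_false hG S (fun g hg => h₁ ⟨g, hg⟩) (fun g hg => h₂ ⟨g, hg⟩) h o₁ o₂ hF₁ hF₂).elim

/-- **the position** -/
theorem exists_pos (hG : Ctx G) (S : Sylow 2 G) (hT : AllTyped (S : Subgroup G)) (hW : NoWr (S : Subgroup G))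
    {P₁ P₂ : Subgroup G} {x : G} (h : NonFree (S : Subgroup G) P₁ P₂ x)
    (c₁ : Nat.card (zl (S : Subgroup G) P₁) = 2 * Nat.card (zc (S : Subgroup G)))
    (c₂ : Nat.card (zl (S : Subgroup G) P₂) = 2 * Nat.card (zc (S : Subgroup G))) :
    ∃ (P V : Subgroup G) (ι : Type u) (R : ι → Subgroup G) (o : ι) (r z : G), HTwo.Entry.Pos S P V R o r z := by
  obtain ⟨F₁, _, _, _, hF₁, ⟨o₁⟩⟩ := exists_natOver hG.char2 hT hW h.mp c₁
  obtain ⟨F₂, _, _, _, hF₂, ⟨o₂⟩⟩ := exists_natOver hG.char2 hT hW h.mp.symm c₂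
  exact exists_pos_of hG S h o₁ o₂ hF₁ hF₂ c₁ c₂

end Cfsg.Agent.Omega.F4Leaf.Cen.NN

end

-- merged: Cfsg.Agent.Mrg.Omega.F4Leaf.Cen.Main
section

/-!
# LeafF4: `m = 2`, `n` 2-central (T-T) and `m = 2`, natural partner: exit into II.0h1, `q = 2` (bb OMEGA #18108)

* `PosExit` : the position `HTwo.Entry.Pos` implies that `G` is known; `posExit_of` : from the open statements of
  II.0h1 (`HOne.Cut`);
* `cen_known`, `nat_known`; `f4Cen`, `f4Nat` : `F4Cen K`, `F4Nat K` from `PosExit`;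
* `leafF4_of` : LeafF4 from `PosExit`, `F4NC`, `F4NatBig`, `F4SymBig`.
-/

set_option autoImplicit false

namespace Cfsg.Agent.Omega.F4Leaf.Cen.Main

open Subgroup Pointwise Cfsg Cfsg.Agent.ZN Cfsg.Agent.ZN.ChoiceBase Cfsg.Agent.Omega.MinPar
open Cfsg.Agent.Omega.Frame Cfsg.Agent.Omega.FFThm
open Cfsg.Agent.Omega.FrameLE (AllIn)
open Cfsg.Agent.Omega.FrameFF (cv Single Free)
open Cfsg.Agent.Omega.FrameMulti (IsSym IsNat Typed AllTyped NoWr LeafF4)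
open Cfsg.Agent.Omega.S5.Def Cfsg.Agent.Omega.S5.Syl Cfsg.Agent.Omega.S5.Pair Cfsg.Agent.Omega.S5.Main
open Cfsg.Agent.Omega.F4Leaf.Def Cfsg.Agent.Omega.F4Leaf.Main

universe u

/-- The exit `Pos` (II.0h1, `q = 2`). -/
def PosExit : Prop :=
  ∀ (G : Type u) [Group G] [Finite G], Ctx G → ∀ (S : Sylow 2 G), Full (S : Subgroup G) →
    AllIn (S : Subgroup G) → ∀ (P V : Subgroup G) (ι : Type u) (R : ι → Subgroup G) (o : ι) (r z : G),
      HTwo.Entry.Pos S P V R o r z → IsKnownSimple' G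

theorem posExit_of (hT : HOne.Cut.TS0.{u, u}) (h3 : HOne.Cut.Three0.{u, u}) (hm : HOne.Cut.More0.{u, u})
    (hE : HOne.Cut.EndL.{u}) : PosExit.{u} :=
  fun _ _ _ hG _ hF hI _ _ _ _ _ _ _ p => HOne.Cut.known_of_pos hT h3 hm hE hG hF hI p

/-- **`F4Cen` with the exit.** -/
theorem cen_known (hX : PosExit.{u}) (G : Type u) [Group G] [Finite G] (hG : Ctx G) (S : Sylow 2 G)
    (hF : Full (S : Subgroup G)) (hI : AllIn (S : Subgroup G)) (hT : AllTyped (S : Subgroup G))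
    (hW : NoWr (S : Subgroup G)) (P₁ P₂ : Subgroup G) (y : G) (A : Subgroup G)
    (ε : (Fin (2 ^ 2 + 1) → ZMod 2) → G) (A₂ : Subgroup G) (ε₂ : (Fin (2 ^ 2 + 1) → ZMod 2) → G)
    (hl : LabTwoZ S P₁ P₂ y 2 2 A ε A₂ ε₂)
    (hC : Cen (zl (S : Subgroup G) P₁) (cj y (zl (S : Subgroup G) P₂))) : IsKnownSimple' G := by
  obtain ⟨p, e, p₂, e₂, h⟩ := Entry.tt_side hG.char2 hl hC
  obtain ⟨R, R₂, x, hR, c, c₂⟩ := h.exists_pair hG.char2 S
  obtain ⟨P, V, ι, R', o, r, z, hp⟩ := NN.exists_pos hG S hT hW hR c c₂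
  exact hX G hG S hF hI P V ι R' o r z hp

/-- **`F4Nat` with the exit.** -/
theorem nat_known (hX : PosExit.{u}) (G : Type u) [Group G] [Finite G] (hG : Ctx G) (S : Sylow 2 G)
    (hF : Full (S : Subgroup G)) (hI : AllIn (S : Subgroup G)) (hT : AllTyped (S : Subgroup G))
    (hW : NoWr (S : Subgroup G)) (P₁ P₂ : Subgroup G) (y : G) (A : Subgroup G)
    (ε : (Fin (2 ^ 2 + 1) → ZMod 2) → G) (hl : LabZ S P₁ P₂ y 2 A ε) (hN : IsNat (S : Subgroup G) P₂ 1)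
    (hcv : cv (S : Subgroup G) P₂ ≠ ⊥) : IsKnownSimple' G := by
  obtain ⟨p, e, h⟩ := Entry.nat_side hG.char2 hl hN
  obtain ⟨R, x, hR, c, hne⟩ := h.exists_pair hG.char2 S hl.pair.star₂
  obtain ⟨c1, c2⟩ := NatStep.natStep G hG.char2 S P₁ P₂ y 2 A ε (by norm_num) hl hN
  obtain ⟨P, V, ι, R', o, r, z, hp⟩ := NN.exists_pos hG S hT hW ⟨hR, hne, hcv⟩ c (by omega)
  exact hX G hG S hF hI P V ι R' o r z hp

theorem f4Cen {K : Cls.{u}} (hX : PosExit.{u}) : F4Cen K :=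
  fun G _ _ hG _ S hF hI hT hW P₁ P₂ y A ε A₂ ε₂ hl _ _ hC => cen_known hX G hG S hF hI hT hW P₁ P₂ y A ε A₂ ε₂ hl hC

theorem f4Nat {K : Cls.{u}} (hX : PosExit.{u}) : F4Nat K :=
  fun G _ _ hG _ S hF hI hT hW P₁ P₂ y A ε hl hN _ _ hcv => nat_known hX G hG S hF hI hT hW P₁ P₂ y A ε hl hN hcv

/-- **LeafF4**: the cases `m = 2`, `n` 2-central and `m = 2`, natural partner are closed by the exit `PosExit`. -/
theorem leafF4_of {K : Cls.{u}} (hX : PosExit.{u}) (h1 : F4NC.{u}) (h4 : F4NatBig K) (h5 : F4SymBig K) :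
    LeafF4 K :=
  F4Leaf.Main.leafF4_of F4Leaf.Split.splitStep NatStep.natStep h1 (f4Cen hX) (f4Nat hX) h4 h5

end Cfsg.Agent.Omega.F4Leaf.Cen.Main

end
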